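import Mathlib
import Groth.Prelude.Def_EtRam
import Groth.Agent.Lib.Helper18.Eis.WeakSol
import Groth.Agent.Lib.Helper18.Unram.DVRFin

/-! # The compositum of `L` with a totally ramified extension of `K` -/

set_option autoImplicit false
set_option linter.style.haveILetI false

namespace Groth.Agent.Lib.Helper18.EppAS

open IsLocalRing EtRam
open Groth.Agent.Lib.Helper18.Eis

universe u

section Comp

variable {A B K L K₂ : Type u} [CommRing A] [IsDomain A] [IsDiscreteValuationRing A]
  [CommRing B] [IsDomain B] [IsDiscreteValuationRing B] [Algebra A B]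
  [Field K] [Field L] [Algebra A K] [IsFractionRing A K] [Algebra B L] [IsFractionRing B L]
  [Algebra K L] [Algebra A L] [IsScalarTower A K L] [IsScalarTower A B L]
  [Field K₂] [Algebra K K₂] [Algebra A K₂] [IsScalarTower A K K₂]
  {F : Type u} [Field F] [Algebra K F] [Algebra L F] [Algebra K₂ F] [IsScalarTower K L F]
  [IsScalarTower K K₂ F] [Algebra B F] [IsScalarTower B L F]
  {π : A} {π₂ w₀ : K₂} {e : ℕ}

/-- The residue field of a valuation ring of the compositum dominating `B` is that of `B`. -/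
theorem residue_from_B (d : UData K π π₂ w₀ e) (hw : IsWeaklyUnramified A B)
    (hgen : Algebra.adjoin L (Set.range (algebraMap K₂ F)) = ⊤) (W : ValuationSubring F)
    (hW : Dominates B (algebraMap B F) W) {x : F} (hx : x ∈ W) :
    ∃ b : B, W.valuation (x - algebraMap B F b) < 1 := by
  classical
  have hvd := d.valData (L := L) hw W hW
  set θ := algebraMap K₂ F π₂ with hθ
  obtain ⟨c, hc⟩ := d.span_M hgen x
  have hcB : ∀ i, c i ∈ Set.range (algebraMap B L) := (hvd.sum_mem_iff c).mp (hc ▸ hx)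
  choose b hb using hcB
  have hc' : x = ∑ i : Fin e, algebraMap B F (b i) * θ ^ (i : ℕ) := by
    rw [hc]
    refine Finset.sum_congr rfl fun i _ => ?_
    rw [← hb i, ← IsScalarTower.algebraMap_apply]
  refine ⟨b ⟨0, d.hn⟩, ?_⟩
  have h0 : x - algebraMap B F (b ⟨0, d.hn⟩) =
      ∑ i ∈ (Finset.univ : Finset (Fin e)).erase ⟨0, d.hn⟩, algebraMap B F (b i) * θ ^ (i : ℕ) := by
    rw [hc', ← Finset.add_sum_erase _ _ (Finset.mem_univ (⟨0, d.hn⟩ : Fin e))]
    simp
  rw [h0]
  refine Valuation.map_sum_lt _ one_ne_zero fun i hi => ?_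
  have hi0 : (i : ℕ) ≠ 0 := fun h => Finset.ne_of_mem_erase hi (Fin.ext h)
  rw [map_mul, map_pow]
  calc W.valuation (algebraMap B F (b i)) * W.valuation θ ^ (i : ℕ)
      ≤ 1 * W.valuation θ ^ (i : ℕ) :=
        mul_le_mul' ((W.valuation_le_one_iff _).mpr (hW.1 (b i))) le_rfl
    _ = W.valuation θ ^ (i : ℕ) := one_mul _
    _ < 1 := pow_lt_one₀ zero_le' hvd.val_lt hi0

/-- Elements of the maximal ideal are divisible by the uniformizer coming from `K₂`. -/
theorem div_uniformizer_mem (d : UData K π π₂ w₀ e) (hw : IsWeaklyUnramified A B)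
    (hgen : Algebra.adjoin L (Set.range (algebraMap K₂ F)) = ⊤) (W : ValuationSubring F)
    (hW : Dominates B (algebraMap B F) W) {x : F} (hxv : W.valuation x < 1) :
    x * (algebraMap K₂ F π₂)⁻¹ ∈ W ∧ W.valuation (algebraMap K₂ F π₂) < 1 ∧
      algebraMap K₂ F π₂ ≠ 0 := by
  classical
  have hvd := d.valData (L := L) hw W hW
  set θ := algebraMap K₂ F π₂ with hθ
  have hxW : x ∈ W := (W.valuation_le_one_iff _).mp hxv.le
  obtain ⟨c, hc⟩ := d.span_M hgen x
  have hcB : ∀ i, c i ∈ Set.range (algebraMap B L) := (hvd.sum_mem_iff c).mp (hc ▸ hxW)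
  choose b hb using hcB
  have hc' : x = ∑ i : Fin e, algebraMap B F (b i) * θ ^ (i : ℕ) := by
    rw [hc]
    refine Finset.sum_congr rfl fun i _ => ?_
    rw [← hb i, ← IsScalarTower.algebraMap_apply]
  have hb0 : b ⟨0, d.hn⟩ ∈ maximalIdeal B := hvd.coeff_zero_mem_of_val_lt b (hc' ▸ hxv)
  rw [d.uniformizer_B hw, Ideal.mem_span_singleton] at hb0
  obtain ⟨b', hb'⟩ := hb0
  have hθlt := hvd.val_lt
  have hθ0 : θ ≠ 0 := (Valuation.ne_zero_iff _).mp hvd.val_ne_zero
  have hxθ : W.valuation x ≤ W.valuation θ := by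
    rw [hc']
    apply Valuation.map_sum_le
    intro i _
    by_cases hi : (i : ℕ) = 0
    · have hi' : i = ⟨0, d.hn⟩ := Fin.ext hi
      rw [hi', pow_zero, mul_one, hb', map_mul, map_mul, ← hvd.hpow]
      calc W.valuation θ ^ e * W.valuation (algebraMap B F b')
          ≤ W.valuation θ ^ e * 1 :=
            mul_le_mul' le_rfl ((W.valuation_le_one_iff _).mpr (hW.1 b'))
        _ = W.valuation θ ^ e := mul_one _
        _ ≤ W.valuation θ := pow_le_of_le_one zero_le' hθlt.le d.hn.ne'
    · rw [map_mul, map_pow]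
      calc W.valuation (algebraMap B F (b i)) * W.valuation θ ^ (i : ℕ)
          ≤ 1 * W.valuation θ ^ (i : ℕ) :=
            mul_le_mul' ((W.valuation_le_one_iff _).mpr (hW.1 (b i))) le_rfl
        _ = W.valuation θ ^ (i : ℕ) := one_mul _
        _ ≤ W.valuation θ := pow_le_of_le_one zero_le' hθlt.le hi
  refine ⟨?_, hθlt, hθ0⟩
  rw [← W.valuation_le_one_iff, map_mul, map_inv₀, ← div_eq_mul_inv]
  exact (div_le_one₀ (zero_lt_iff.mpr hvd.val_ne_zero)).mpr hxθ

/-- The compositum is finite over `L`. -/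
theorem finite_F (d : UData K π π₂ w₀ e)
    (hgen : Algebra.adjoin L (Set.range (algebraMap K₂ F)) = ⊤) : FiniteDimensional L F := by
  have hsp : ⊤ ≤ Submodule.span L
      (Set.range fun i : Fin e => (algebraMap K₂ F π₂) ^ (i : ℕ)) := by
    intro x _
    obtain ⟨c, hc⟩ := d.span_M hgen x
    rw [hc]
    refine Submodule.sum_mem _ fun i _ => ?_
    rw [← Algebra.smul_def]
    exact Submodule.smul_mem _ _ (Submodule.subset_span ⟨i, rfl⟩)
  refine ⟨⟨(Set.finite_range fun i : Fin e => (algebraMap K₂ F π₂) ^ (i : ℕ)).toFinset, ?_⟩⟩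
  rw [Set.Finite.coe_toFinset]
  exact top_le_iff.mp hsp

/-- A valuation ring of the compositum dominating `B` is a discrete valuation ring. -/
theorem isDVR_F (d : UData K π π₂ w₀ e)
    (hgen : Algebra.adjoin L (Set.range (algebraMap K₂ F)) = ⊤) (W : ValuationSubring F)
    (hW : Dominates B (algebraMap B F) W) : IsDiscreteValuationRing W := by
  haveI : FiniteDimensional L F := finite_F d hgen
  have hW' : Dominates B ((algebraMap L F).comp (algebraMap B L)) W := by
    rw [← IsScalarTower.algebraMap_eq B L F]; exact hW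
  obtain ⟨ϖ, hmax, hϖ0, hfac⟩ := Unram.exists_generator' (A := B) (K := L) W hW'
  have hϖ0' : ϖ ≠ 0 := fun h => hϖ0 (by rw [h]; rfl)
  have hprime : Prime ϖ := by
    rw [← Ideal.span_singleton_prime hϖ0', ← hmax]
    infer_instance
  refine IsDiscreteValuationRing.ofHasUnitMulPowIrreducibleFactorization
    ⟨ϖ, hprime.irreducible, ?_⟩
  intro x hx
  obtain ⟨n, u, hu⟩ := hfac x hx
  exact ⟨n, u, by rw [hu, mul_comm]⟩

end Comp

end Groth.Agent.Lib.Helper18.EppAS
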