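import Mathlib

/-! # Artin–Schreier reductions in a field with a valuation ring -/

set_option autoImplicit false
set_option linter.style.haveILetI false

namespace Groth.Agent.Lib.Helper18.EppAS

open Polynomial

variable {p : ℕ} [hp : Fact p.Prime] {F : Type*} [Field F] [CharP F p]

/-- The Artin–Schreier operator. -/
def wp (p : ℕ) {F : Type*} [Field F] (x : F) : F := x ^ p - x

theorem wp_add (x y : F) : wp p (x + y) = wp p x + wp p y := by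
  unfold wp
  rw [add_pow_char]
  ring

theorem wp_zero : wp p (0 : F) = 0 := by
  unfold wp
  rw [zero_pow hp.out.ne_zero, sub_zero]

theorem wp_neg (x : F) : wp p (-x) = -wp p x := by
  have h := wp_add (p := p) x (-x)
  rw [add_neg_cancel, wp_zero] at h
  exact eq_neg_of_add_eq_zero_right h.symm

theorem wp_sub (x y : F) : wp p (x - y) = wp p x - wp p y := by
  rw [sub_eq_add_neg, wp_add, wp_neg, ← sub_eq_add_neg]

omit hp [CharP F p] in
theorem map_wp {F' : Type*} [Field F'] (f : F →+* F') (x : F) : f (wp p x) = wp p (f x) := by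
  unfold wp
  rw [map_sub, map_pow]

theorem wp_sum {ι : Type*} (s : Finset ι) (f : ι → F) :
    wp p (∑ i ∈ s, f i) = ∑ i ∈ s, wp p (f i) := by
  classical
  induction s using Finset.induction_on with
  | empty => simp [wp_zero]
  | insert a s ha ih => rw [Finset.sum_insert ha, Finset.sum_insert ha, wp_add, ih]

/-- `x ^ (p ^ s) = x + ℘(x + x^p + ⋯ + x^(p^(s-1)))`. -/
theorem pow_pow_eq (x : F) (s : ℕ) :
    x ^ p ^ s = x + wp p (∑ i ∈ Finset.range s, x ^ p ^ i) := by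
  induction s with
  | zero => simp [wp_zero]
  | succ s ih =>
    rw [Finset.sum_range_succ, wp_add, ← add_assoc, ← ih]
    unfold wp
    rw [← pow_mul, ← pow_succ]
    ring


section Val

variable (O : ValuationSubring F)

/-- Reduction of one term `π^{-j} r^{p^s}` after a base change making `π` almost a `p^N`-th
power. -/
theorem term_reduce {π θ w b : F} (hπO : π ∈ O) (hπ0 : π ≠ 0) (hθ0 : θ ≠ 0) {N n : ℕ}
    (hrel : θ ^ p ^ N = π * w) (hw : w = 1 + π ^ n * b) (hb : b ∈ O) (hwinv : w⁻¹ ∈ O)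
    {j s : ℕ} (hj : j ≤ n) (hs : s ≤ N) {r : F} (hr : r ∈ O) :
    ∃ ι ∈ O, (π ^ j)⁻¹ * r ^ p ^ s =
      (θ⁻¹) ^ (j * p ^ (N - s)) * r +
        wp p (∑ i ∈ Finset.range s, ((θ⁻¹) ^ (j * p ^ (N - s)) * r) ^ p ^ i) + ι := by
  have hwO : w ∈ O := by
    rw [hw]; exact O.add_mem _ _ O.one_mem (O.mul_mem _ _ (pow_mem hπO n) hb)
  have hw0 : w ≠ 0 := by
    intro h0
    rw [h0, mul_zero] at hrel
    exact hθ0 (pow_eq_zero_iff (pow_ne_zero _ hp.out.ne_zero) |>.mp hrel)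
  set x : F := (θ⁻¹) ^ (j * p ^ (N - s)) * r with hx
  have hxpow : x ^ p ^ s = (w⁻¹) ^ j * (π ^ j)⁻¹ * r ^ p ^ s := by
    rw [hx, mul_pow, ← pow_mul, mul_assoc, ← pow_add, Nat.sub_add_cancel hs, mul_comm j, pow_mul,
      inv_pow, hrel, mul_inv, mul_pow, inv_pow, inv_pow]
    ring
  set G : F := ∑ i ∈ Finset.range j, w ^ i with hG
  have hGO : G ∈ O := by
    rw [hG]; exact sum_mem fun i _ => pow_mem hwO i
  have hgeom : w ^ j - 1 = π ^ n * b * G := by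
    rw [hG, ← geom_sum_mul, hw]; ring
  refine ⟨r ^ p ^ s * (w⁻¹) ^ j * π ^ (n - j) * b * G, ?_, ?_⟩
  · exact O.mul_mem _ _ (O.mul_mem _ _ (O.mul_mem _ _ (O.mul_mem _ _ (pow_mem hr _)
      (pow_mem hwinv _)) (pow_mem hπO _)) hb) hGO
  · rw [← pow_pow_eq x s, hxpow]
    have h1 : (w⁻¹) ^ j * w ^ j = 1 := by rw [← mul_pow, inv_mul_cancel₀ hw0, one_pow]
    have h2 : π ^ n = π ^ (n - j) * π ^ j := by rw [← pow_add, Nat.sub_add_cancel hj]
    have h3 : (π ^ j)⁻¹ * π ^ j = 1 := inv_mul_cancel₀ (pow_ne_zero _ hπ0)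
    have h4 : w ^ j = 1 + π ^ n * b * G := by rw [← hgeom]; ring
    calc (π ^ j)⁻¹ * r ^ p ^ s
        = ((w⁻¹) ^ j * w ^ j) * ((π ^ j)⁻¹ * r ^ p ^ s) := by rw [h1, one_mul]
      _ = (w⁻¹) ^ j * (π ^ j)⁻¹ * r ^ p ^ s +
            r ^ p ^ s * (w⁻¹) ^ j * π ^ (n - j) * b * G * ((π ^ j)⁻¹ * π ^ j) := by
          rw [h4, h2]; ring
      _ = _ := by rw [h3, mul_one]

/-- The leading term of a sum of terms with distinct pole orders. -/
theorem leading_term {θ : F} (hθ0 : θ ≠ 0) (hθ : O.valuation θ < 1) (J : Finset ℕ)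
    (hJ : J.Nonempty) (E : ℕ → ℕ) (hE : Set.InjOn E J) (hE1 : ∀ j ∈ J, 1 ≤ E j) (r : ℕ → F)
    (hr : ∀ j ∈ J, r j ∈ O) {ι : F} (hι : ι ∈ O) :
    ∃ j₀ ∈ J, ∃ δ : F, O.valuation δ < 1 ∧
      ∑ j ∈ J, (θ⁻¹) ^ E j * r j + ι = (θ⁻¹) ^ E j₀ * (r j₀ + δ) := by
  classical
  obtain ⟨j₀, hj₀, hmax⟩ := Finset.exists_max_image J E hJ
  refine ⟨j₀, hj₀, ∑ j ∈ J.erase j₀, θ ^ (E j₀ - E j) * r j + θ ^ E j₀ * ι, ?_, ?_⟩
  · have hterm : ∀ j ∈ J.erase j₀, O.valuation (θ ^ (E j₀ - E j) * r j) < 1 := by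
      intro j hj
      have hjJ := Finset.mem_of_mem_erase hj
      have hne : j ≠ j₀ := Finset.ne_of_mem_erase hj
      have hlt : E j < E j₀ := by
        refine lt_of_le_of_ne (hmax j hjJ) fun h => hne (hE hjJ hj₀ h)
      rw [map_mul, map_pow]
      calc O.valuation θ ^ (E j₀ - E j) * O.valuation (r j)
          ≤ O.valuation θ ^ (E j₀ - E j) * 1 :=
            mul_le_mul' le_rfl ((O.valuation_le_one_iff _).mpr (hr j hjJ))
        _ = O.valuation θ ^ (E j₀ - E j) := mul_one _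
        _ < 1 := pow_lt_one₀ zero_le' hθ (by omega)
    have hι' : O.valuation (θ ^ E j₀ * ι) < 1 := by
      rw [map_mul, map_pow]
      calc O.valuation θ ^ E j₀ * O.valuation ι
          ≤ O.valuation θ ^ E j₀ * 1 := mul_le_mul' le_rfl ((O.valuation_le_one_iff _).mpr hι)
        _ = O.valuation θ ^ E j₀ := mul_one _
        _ < 1 := pow_lt_one₀ zero_le' hθ (by have := hE1 j₀ hj₀; omega)
    refine lt_of_le_of_lt (Valuation.map_add _ _ _) (max_lt ?_ hι')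
    exact Valuation.map_sum_lt _ one_ne_zero hterm
  · rw [← Finset.add_sum_erase J _ hj₀, mul_add, mul_add, Finset.mul_sum]
    have h1 : (θ⁻¹) ^ E j₀ * (θ ^ E j₀ * ι) = ι := by
      rw [← mul_assoc, ← mul_pow, inv_mul_cancel₀ hθ0, one_pow, one_mul]
    rw [h1, add_assoc]
    congr 2
    refine Finset.sum_congr rfl fun j hj => ?_
    have hjJ := Finset.mem_of_mem_erase hj
    have hle : E j ≤ E j₀ := hmax j hjJ
    rw [← mul_assoc]
    congr 1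
    have : (θ⁻¹) ^ E j₀ = (θ⁻¹) ^ E j * (θ⁻¹) ^ (E j₀ - E j) := by
      rw [← pow_add, Nat.add_sub_cancel' hle]
    rw [this, mul_assoc, ← mul_pow, inv_mul_cancel₀ hθ0, one_pow, mul_one]


/-- The pole orders `j * p^(N - s j)` are pairwise distinct. -/
theorem injOn_exponent (J : Finset ℕ) (s : ℕ → ℕ) {N : ℕ} (hsN : ∀ j ∈ J, s j ≤ N)
    (hps : ∀ j ∈ J, p ∣ j → s j = 0) :
    Set.InjOn (fun j => j * p ^ (N - s j)) J := by
  have hp0 : 0 < p := hp.out.pos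
  have key : ∀ j ∈ J, ∀ j' ∈ J, s j ≤ s j' → j * p ^ (N - s j) = j' * p ^ (N - s j') → j = j' := by
    intro j hj j' hj' hle h
    have h1 : N - s j = (N - s j') + (s j' - s j) := by
      have := hsN j' hj'; omega
    rw [h1, pow_add, ← mul_assoc, mul_comm j, mul_assoc, mul_comm j'] at h
    have h2 : j * p ^ (s j' - s j) = j' := by
      have hpos : 0 < p ^ (N - s j') := pow_pos hp0 _
      have := Nat.eq_of_mul_eq_mul_left hpos h
      rw [mul_comm] at this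
      rw [mul_comm]
      exact this
    by_cases hlt : s j < s j'
    · exfalso
      have hdvd : p ∣ j' := by
        rw [← h2]
        exact Dvd.dvd.mul_left (dvd_pow_self p (by omega)) j
      have := hps j' hj' hdvd
      omega
    · have heq : s j' - s j = 0 := by omega
      rw [heq, pow_zero, mul_one] at h2
      exact h2
  intro j hj j' hj' h
  rcases le_total (s j) (s j') with hle | hle
  · exact key j hj j' hj' hle h
  · exact (key j' hj' j hj hle h.symm).symm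

/-- The core reduction: after the base change, `ξ` is Artin–Schreier equivalent to a sum of
"frozen" terms plus an integral element. -/
theorem core_reduction {π θ w b : F} (hπO : π ∈ O) (hπ0 : π ≠ 0) (hθ0 : θ ≠ 0) {N n : ℕ}
    (hrel : θ ^ p ^ N = π * w) (hw : w = 1 + π ^ n * b) (hb : b ∈ O) (hwinv : w⁻¹ ∈ O)
    (J : Finset ℕ) (s : ℕ → ℕ) (r : ℕ → F) (hjn : ∀ j ∈ J, j ≤ n) (hsN : ∀ j ∈ J, s j ≤ N)
    (hr : ∀ j ∈ J, r j ∈ O) {ξ y₀ ρ t a₁ b₀ : F}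
    (hξ : ξ + wp p y₀ = ρ + ∑ j ∈ J, (π ^ j)⁻¹ * r j ^ p ^ s j + b₀)
    (hρ : ρ = wp p t + a₁) (ha₁ : a₁ ∈ O) (hb₀ : b₀ ∈ O) :
    ∃ y ι : F, ι ∈ O ∧ ξ + wp p y = ∑ j ∈ J, (θ⁻¹) ^ (j * p ^ (N - s j)) * r j + ι := by
  classical
  have hterm : ∀ j ∈ J, ∃ ι ∈ O, (π ^ j)⁻¹ * r j ^ p ^ s j =
      (θ⁻¹) ^ (j * p ^ (N - s j)) * r j +
        wp p (∑ i ∈ Finset.range (s j), ((θ⁻¹) ^ (j * p ^ (N - s j)) * r j) ^ p ^ i) + ι :=
    fun j hj => term_reduce O hπO hπ0 hθ0 hrel hw hb hwinv (hjn j hj) (hsN j hj) (hr j hj)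
  choose! ι hιO hι using hterm
  set S : ℕ → F := fun j =>
    ∑ i ∈ Finset.range (s j), ((θ⁻¹) ^ (j * p ^ (N - s j)) * r j) ^ p ^ i with hS
  refine ⟨y₀ - t - ∑ j ∈ J, S j, a₁ + b₀ + ∑ j ∈ J, ι j, ?_, ?_⟩
  · exact O.add_mem _ _ (O.add_mem _ _ ha₁ hb₀) (sum_mem fun j hj => hιO j hj)
  · have hsum : ∑ j ∈ J, (π ^ j)⁻¹ * r j ^ p ^ s j =
        ∑ j ∈ J, (θ⁻¹) ^ (j * p ^ (N - s j)) * r j + ∑ j ∈ J, wp p (S j) + ∑ j ∈ J, ι j := by
      rw [← Finset.sum_add_distrib, ← Finset.sum_add_distrib]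
      exact Finset.sum_congr rfl fun j hj => hι j hj
    rw [wp_sub, wp_sub, wp_sum]
    have h1 : ξ = ρ + ∑ j ∈ J, (π ^ j)⁻¹ * r j ^ p ^ s j + b₀ - wp p y₀ :=
      eq_sub_of_add_eq hξ
    rw [h1, hsum, hρ]
    ring

/-- The final shape: either integral, or a `p`-th power pole times a unit whose residue is that
of some `r j₀`. -/
theorem exists_good_form {π θ w b : F} (hπO : π ∈ O) (hπ0 : π ≠ 0) (hθ0 : θ ≠ 0)
    (hθ : O.valuation θ < 1) {N n : ℕ}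
    (hrel : θ ^ p ^ N = π * w) (hw : w = 1 + π ^ n * b) (hb : b ∈ O) (hwinv : w⁻¹ ∈ O)
    (J : Finset ℕ) (s : ℕ → ℕ) (r : ℕ → F) (hj1 : ∀ j ∈ J, 1 ≤ j) (hjn : ∀ j ∈ J, j ≤ n)
    (hsN : ∀ j ∈ J, s j < N) (hps : ∀ j ∈ J, p ∣ j → s j = 0)
    (hr : ∀ j ∈ J, r j ∈ O) {ξ y₀ ρ t a₁ b₀ : F}
    (hξ : ξ + wp p y₀ = ρ + ∑ j ∈ J, (π ^ j)⁻¹ * r j ^ p ^ s j + b₀)
    (hρ : ρ = wp p t + a₁) (ha₁ : a₁ ∈ O) (hb₀ : b₀ ∈ O) :
    ∃ y : F, ξ + wp p y ∈ O ∨
      ∃ j₀ ∈ J, ∃ δ : F, O.valuation δ < 1 ∧ ∃ E₀ : ℕ, 0 < E₀ ∧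
        ξ + wp p y = ((θ⁻¹) ^ E₀) ^ p * (r j₀ + δ) := by
  obtain ⟨y, ι, hι, hy⟩ := core_reduction O hπO hπ0 hθ0 hrel hw hb hwinv J s r hjn
    (fun j hj => (hsN j hj).le) hr hξ hρ ha₁ hb₀
  refine ⟨y, ?_⟩
  rcases J.eq_empty_or_nonempty with hJ | hJ
  · left
    rw [hy, hJ, Finset.sum_empty, zero_add]
    exact hι
  right
  have hp0 : 0 < p := hp.out.pos
  obtain ⟨j₀, hj₀, δ, hδ, hlead⟩ := leading_term O hθ0 hθ J hJ (fun j => j * p ^ (N - s j))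
    (injOn_exponent J s (fun j hj => (hsN j hj).le) hps)
    (fun j hj => Nat.mul_pos (hj1 j hj) (pow_pos hp0 _)) r hr hι
  refine ⟨j₀, hj₀, δ, hδ, j₀ * p ^ (N - s j₀ - 1), Nat.mul_pos (hj1 j₀ hj₀) (pow_pos hp0 _), ?_⟩
  rw [hy, hlead, ← pow_mul]
  congr 2
  have : N - s j₀ = (N - s j₀ - 1) + 1 := by have := hsN j₀ hj₀; omega
  conv_lhs => rw [this, pow_succ]
  ring

end Val

end Groth.Agent.Lib.Helper18.EppAS
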