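import Mathlib
import Groth.Prelude.Def_EtRam
import Groth.Agent.Lib.Helper18.EppAS.Core
import Groth.Agent.Lib.Helper18.AS.Cases

/-! # Normal forms of Artin–Schreier classes over a discrete valuation ring -/

set_option autoImplicit false
set_option linter.style.haveILetI false

namespace Groth.Agent.Lib.Helper18.EppAS

open Polynomial IsLocalRing

universe u

section Residue

variable {p : ℕ} [hp : Fact p.Prime] {A B : Type u} [CommRing A] [IsLocalRing A]
  [CommRing B] [IsLocalRing B] [Algebra A B] [IsLocalHom (algebraMap A B)]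
  [CharP (ResidueField B) p]

/-- An element of the residue field of `B` outside the perfect core has a finite depth. -/
theorem exists_depth
    (hk : ∀ x : ResidueField B, (∀ n : ℕ, ∃ y : ResidueField B, y ^ (p ^ n) = x) ↔
      x ∈ Set.range (algebraMap (ResidueField A) (ResidueField B)))
    (b : B) (hb : residue B b ∉ Set.range (algebraMap (ResidueField A) (ResidueField B))) :
    ∃ (s : ℕ) (r : B), residue B b = residue B r ^ p ^ s ∧
      ∀ c : B, residue B r ≠ residue B c ^ p := by
  classical
  have hnot : ¬ ∀ n : ℕ, ∃ y : ResidueField B, y ^ (p ^ n) = residue B b :=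
    fun h => hb ((hk _).mp h)
  push_neg at hnot
  have hex : ∃ n : ℕ, ∀ y : ResidueField B, y ^ (p ^ n) ≠ residue B b := hnot
  set n := Nat.find hex with hn
  have hspec := Nat.find_spec hex
  have hn0 : n ≠ 0 := by
    intro h0
    have := hspec (residue B b)
    rw [← hn, h0, pow_zero, pow_one] at this
    exact this rfl
  obtain ⟨s, hs⟩ : ∃ s, n = s + 1 := ⟨n - 1, by omega⟩
  have hmin : ¬ ∀ y : ResidueField B, y ^ (p ^ s) ≠ residue B b :=
    Nat.find_min hex (by omega : s < n)
  push_neg at hmin
  obtain ⟨y, hy⟩ := hmin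
  obtain ⟨r, rfl⟩ := residue_surjective y
  refine ⟨s, r, hy.symm, fun c hc => ?_⟩
  apply hspec (residue B c)
  rw [← hn, hs, pow_succ, mul_comm, pow_mul, ← hc, hy]

/-- The residue field of `A` is perfect. -/
theorem residue_perfect
    (hk : ∀ x : ResidueField B, (∀ n : ℕ, ∃ y : ResidueField B, y ^ (p ^ n) = x) ↔
      x ∈ Set.range (algebraMap (ResidueField A) (ResidueField B)))
    (a : A) : ∃ a' : A, residue A a = residue A a' ^ p := by
  have h1 : ∀ n : ℕ, ∃ y : ResidueField B, y ^ (p ^ n) =
      algebraMap (ResidueField A) (ResidueField B) (residue A a) := (hk _).mpr ⟨_, rfl⟩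
  obtain ⟨y₁, hy₁⟩ := h1 1
  rw [pow_one] at hy₁
  have h2 : ∀ n : ℕ, ∃ y : ResidueField B, y ^ (p ^ n) = y₁ := by
    intro n
    obtain ⟨y, hy⟩ := h1 (n + 1)
    refine ⟨y, ?_⟩
    apply frobenius_inj (ResidueField B) p
    show (y ^ p ^ n) ^ p = y₁ ^ p
    rw [← pow_mul, ← pow_succ, hy, hy₁]
  obtain ⟨x, hx⟩ := (hk _).mp h2
  obtain ⟨a', rfl⟩ := residue_surjective x
  refine ⟨a', ?_⟩
  apply (algebraMap (ResidueField A) (ResidueField B)).injective
  rw [map_pow, hx, hy₁]

end Residue

section Lead

variable {L : Type*} [Field L]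

theorem sub_lead {P ξ t b' : L} (hP : P ≠ 0) {n : ℕ} (hn : 0 < n) (h : ξ * P ^ n = t + P * b') :
    (ξ - (P ^ n)⁻¹ * t) * P ^ (n - 1) = b' := by
  have hPn : P ^ n ≠ 0 := pow_ne_zero _ hP
  have h1 : P ^ n = P ^ (n - 1) * P := by rw [← pow_succ, Nat.sub_add_cancel hn]
  have h2 : (ξ - (P ^ n)⁻¹ * t) * P ^ n = P * b' := by
    rw [sub_mul, h, mul_assoc, mul_comm t, ← mul_assoc, inv_mul_cancel₀ hPn, one_mul]
    ring
  rw [h1, ← mul_assoc] at h2
  have h3 : (ξ - (P ^ (n - 1) * P)⁻¹ * t) * P ^ (n - 1) * P = b' * P := by rw [h2, mul_comm]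
  have h4 := mul_right_cancel₀ hP h3
  rw [← h1] at h4
  exact h4

end Lead

section ResEq

variable {A B : Type u} [CommRing A] [IsLocalRing A] [CommRing B] [IsLocalRing B] [Algebra A B]

/-- Equal residues differ by a multiple of the uniformizer. -/
theorem exists_eq_add_of_residue_eq (hw : EtRam.IsWeaklyUnramified A B) {π : A}
    (hπ : maximalIdeal A = Ideal.span {π}) {b b₁ : B} (h : residue B b = residue B b₁) :
    ∃ b' : B, b = b₁ + algebraMap A B π * b' := by
  have hmem : b - b₁ ∈ maximalIdeal B := by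
    rw [← residue_eq_zero_iff, map_sub, h, sub_self]
  have hmax : maximalIdeal B = Ideal.span {algebraMap A B π} := by
    rw [← hw, hπ, Ideal.map_span, Set.image_singleton]
  rw [hmax, Ideal.mem_span_singleton] at hmem
  obtain ⟨b', hb'⟩ := hmem
  exact ⟨b', by rw [← hb']; ring⟩

end ResEq

section NF

variable {p : ℕ} [hp : Fact p.Prime] {A B K L : Type u}
  [CommRing A] [IsDomain A] [IsDiscreteValuationRing A] [CommRing B] [IsDomain B]
  [IsDiscreteValuationRing B] [Algebra A B] [IsLocalHom (algebraMap A B)]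
  [Field K] [Field L] [Algebra A K] [IsFractionRing A K] [Algebra B L] [IsFractionRing B L]
  [Algebra K L] [Algebra A L] [IsScalarTower A K L] [IsScalarTower A B L] [CharP K p]

/-- The normal form of an Artin–Schreier class over `L`: a rational part, finitely many terms
`π^{-j} r_j^{p^{s_j}}` with `r_j` not a `p`-th power in the residue field, and an integral
part. -/
theorem normal_form (hw : EtRam.IsWeaklyUnramified A B) (π : A)
    (hπ : maximalIdeal A = Ideal.span {π})
    (hk : ∀ x : ResidueField B, (∀ n : ℕ, ∃ y : ResidueField B, y ^ (p ^ n) = x) ↔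
      x ∈ Set.range (algebraMap (ResidueField A) (ResidueField B))) :
    ∀ (n : ℕ) (ξ : L) (b : B), ξ * (algebraMap A L π) ^ n = algebraMap B L b →
      ∃ (y : L) (ρ : K) (J : Finset ℕ) (s : ℕ → ℕ) (r : ℕ → B) (b₀ : B),
        (∀ j ∈ J, 1 ≤ j ∧ j ≤ n) ∧ (∀ j ∈ J, p ∣ j → s j = 0) ∧
        (∀ j ∈ J, ∀ c : B, residue B (r j) ≠ residue B c ^ p) ∧
        ξ + wp p y = algebraMap K L ρ +
          ∑ j ∈ J, ((algebraMap A L π) ^ j)⁻¹ * (algebraMap B L (r j)) ^ p ^ s j +
          algebraMap B L b₀ := by
  classical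
  haveI : CharP L p := charP_of_injective_algebraMap (algebraMap K L).injective p
  haveI : CharP (ResidueField B) p := AS.charP_residue (p := p) B L
  have hπirr : Irreducible π := (IsDiscreteValuationRing.irreducible_iff_uniformizer π).mpr hπ
  set P : L := algebraMap A L π with hP
  have hPB : P = algebraMap B L (algebraMap A B π) := IsScalarTower.algebraMap_apply A B L π
  have hPK : P = algebraMap K L (algebraMap A K π) := IsScalarTower.algebraMap_apply A K L π
  have hP0 : P ≠ 0 := by
    rw [hPK]
    intro h0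
    have h1 : algebraMap A K π = 0 := (algebraMap K L).injective (h0.trans (map_zero _).symm)
    exact hπirr.ne_zero (IsFractionRing.injective A K (h1.trans (map_zero _).symm))
  intro n
  induction n using Nat.strong_induction_on with
  | _ n ih =>
    intro ξ b hξ
    rcases Nat.eq_zero_or_pos n with hn0 | hnpos
    · refine ⟨0, 0, ∅, fun _ => 0, fun _ => 0, b, by simp, by simp, by simp, ?_⟩
      rw [hn0, pow_zero, mul_one] at hξ
      rw [wp_zero, map_zero, Finset.sum_empty, hξ]; ring
    -- weakening of the bound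
    have weaken : ∀ (ξ' : L) (b' : B), ξ' * P ^ (n - 1) = algebraMap B L b' →
        ∃ (y : L) (ρ : K) (J : Finset ℕ) (s : ℕ → ℕ) (r : ℕ → B) (b₀ : B),
          (∀ j ∈ J, 1 ≤ j ∧ j ≤ n - 1) ∧ (∀ j ∈ J, p ∣ j → s j = 0) ∧
          (∀ j ∈ J, ∀ c : B, residue B (r j) ≠ residue B c ^ p) ∧
          ξ' + wp p y = algebraMap K L ρ +
            ∑ j ∈ J, (P ^ j)⁻¹ * (algebraMap B L (r j)) ^ p ^ s j + algebraMap B L b₀ :=
      fun ξ' b' h => ih (n - 1) (by omega) ξ' b' h
    by_cases hbm : b ∈ maximalIdeal B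
    · -- `b` divisible by the uniformizer
      obtain ⟨b', hb'⟩ := exists_eq_add_of_residue_eq hw hπ (b := b) (b₁ := 0)
        (by rw [map_zero]; exact (residue_eq_zero_iff b).mpr hbm)
      rw [zero_add] at hb'
      have h1 : ξ * P ^ n = 0 + P * algebraMap B L b' := by
        rw [hξ, hb', map_mul, ← hPB, zero_add]
      have h2 := sub_lead hP0 hnpos h1
      rw [mul_zero, sub_zero] at h2
      obtain ⟨y, ρ, J, s, r, b₀, hJ, hps, hr, heq⟩ := weaken ξ b' h2
      exact ⟨y, ρ, J, s, r, b₀, fun j hj => ⟨(hJ j hj).1, by have := (hJ j hj).2; omega⟩, hps, hr,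
        heq⟩
    by_cases hpn : p ∣ n
    · by_cases hpow : ∃ c : B, residue B b = residue B c ^ p
      · -- reduce the pole order by extracting a `p`-th root
        obtain ⟨c, hc⟩ := hpow
        obtain ⟨m, hm⟩ := hpn
        have hmpos : 0 < m := by
          rcases Nat.eq_zero_or_pos m with h0 | h0
          · rw [h0, mul_zero] at hm; omega
          · exact h0
        have hp2 := hp.out.two_le
        have hmn : m ≤ n - 1 := by
          have : 2 * m ≤ n := by rw [hm]; exact Nat.mul_le_mul_right m hp2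
          omega
        obtain ⟨b', hb'⟩ := exists_eq_add_of_residue_eq hw hπ (b := b) (b₁ := c ^ p)
          (by rw [hc, map_pow])
        set x : L := (P ^ m)⁻¹ * algebraMap B L c with hx
        have hxp : x ^ p = (P ^ n)⁻¹ * algebraMap B L (c ^ p) := by
          rw [hx, mul_pow, inv_pow, ← pow_mul, mul_comm m p, ← hm, map_pow]
        have h1 : ξ * P ^ n = algebraMap B L (c ^ p) + P * algebraMap B L b' := by
          rw [hξ, hb', map_add, map_mul, ← hPB]
        have h2 := sub_lead hP0 hnpos h1
        set ξ' : L := x + (ξ - (P ^ n)⁻¹ * algebraMap B L (c ^ p)) with hξ'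
        have h3 : ξ' * P ^ (n - 1) =
            algebraMap B L (algebraMap A B π ^ (n - 1 - m) * c + b') := by
          rw [hξ', add_mul, h2, map_add, map_mul, map_pow, ← hPB, hx]
          congr 1
          have : P ^ (n - 1) = P ^ m * P ^ (n - 1 - m) := by
            rw [← pow_add, Nat.add_sub_cancel' hmn]
          rw [this]
          have hPm : P ^ m ≠ 0 := pow_ne_zero _ hP0
          field_simp
        obtain ⟨y, ρ, J, s, r, b₀, hJ, hps, hr, heq⟩ := weaken ξ' _ h3
        refine ⟨y - x, ρ, J, s, r, b₀,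
          fun j hj => ⟨(hJ j hj).1, by have := (hJ j hj).2; omega⟩, hps, hr, ?_⟩
        rw [← heq, wp_sub, hξ', ← hxp]
        unfold wp
        ring
      · -- a frozen term
        push_neg at hpow
        refine ⟨0, 0, {n}, fun _ => 0, fun _ => b, 0, ?_, ?_, ?_, ?_⟩
        · intro j hj
          rw [Finset.mem_singleton] at hj
          subst hj
          exact ⟨hnpos, le_rfl⟩
        · intro j _ _; rfl
        · intro j _ c; exact hpow c
        · rw [wp_zero, map_zero, map_zero, Finset.sum_singleton, pow_zero, pow_one, ← hξ]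
          have hPn : P ^ n ≠ 0 := pow_ne_zero _ hP0
          field_simp
          ring
    · by_cases hrat : residue B b ∈ Set.range (algebraMap (ResidueField A) (ResidueField B))
      · -- a rational term
        obtain ⟨abar, ha⟩ := hrat
        obtain ⟨a, rfl⟩ := residue_surjective abar
        rw [ResidueField.algebraMap_residue] at ha
        obtain ⟨b', hb'⟩ := exists_eq_add_of_residue_eq hw hπ ha.symm
        have h1 : ξ * P ^ n = algebraMap B L (algebraMap A B a) + P * algebraMap B L b' := by
          rw [hξ, hb', map_add, map_mul, ← hPB]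
        have h2 := sub_lead hP0 hnpos h1
        obtain ⟨y, ρ, J, s, r, b₀, hJ, hps, hr, heq⟩ := weaken _ b' h2
        refine ⟨y, ρ + (algebraMap A K π ^ n)⁻¹ * algebraMap A K a, J, s, r, b₀,
          fun j hj => ⟨(hJ j hj).1, by have := (hJ j hj).2; omega⟩, hps, hr, ?_⟩
        have h3 : algebraMap K L ((algebraMap A K π ^ n)⁻¹ * algebraMap A K a) =
            (P ^ n)⁻¹ * algebraMap B L (algebraMap A B a) := by
          rw [map_mul, map_inv₀, map_pow, ← hPK, ← IsScalarTower.algebraMap_apply A K L,
            ← IsScalarTower.algebraMap_apply A B L]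
        rw [map_add, h3]
        linear_combination heq
      · -- a frozen term of positive depth
        obtain ⟨s₀, r₀, hr₀, hr₀'⟩ := exists_depth hk b hrat
        obtain ⟨b', hb'⟩ := exists_eq_add_of_residue_eq hw hπ (b := b) (b₁ := r₀ ^ p ^ s₀)
          (by rw [hr₀, map_pow])
        have h1 : ξ * P ^ n = algebraMap B L (r₀ ^ p ^ s₀) + P * algebraMap B L b' := by
          rw [hξ, hb', map_add, map_mul, ← hPB]
        have h2 := sub_lead hP0 hnpos h1
        obtain ⟨y, ρ, J, s, r, b₀, hJ, hps, hr, heq⟩ := weaken _ b' h2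
        have hnJ : n ∉ J := fun hmem => by have := (hJ n hmem).2; omega
        refine ⟨y, ρ, insert n J, Function.update s n s₀, Function.update r n r₀, b₀, ?_, ?_, ?_, ?_⟩
        · intro j hj
          rcases Finset.mem_insert.mp hj with rfl | hj
          · exact ⟨hnpos, le_rfl⟩
          · exact ⟨(hJ j hj).1, by have := (hJ j hj).2; omega⟩
        · intro j hj hpj
          rcases Finset.mem_insert.mp hj with rfl | hj
          · exact absurd hpj hpn
          · rw [Function.update_of_ne (ne_of_mem_of_not_mem hj hnJ)]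
            exact hps j hj hpj
        · intro j hj c
          rcases Finset.mem_insert.mp hj with rfl | hj
          · rw [Function.update_self]; exact hr₀' c
          · rw [Function.update_of_ne (ne_of_mem_of_not_mem hj hnJ)]
            exact hr j hj c
        · rw [Finset.sum_insert hnJ, Function.update_self, Function.update_self]
          have hsum : ∑ j ∈ J, (P ^ j)⁻¹ *
              (algebraMap B L (Function.update r n r₀ j)) ^ p ^ Function.update s n s₀ j =
              ∑ j ∈ J, (P ^ j)⁻¹ * (algebraMap B L (r j)) ^ p ^ s j := by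
            refine Finset.sum_congr rfl fun j hj => ?_
            rw [Function.update_of_ne (ne_of_mem_of_not_mem hj hnJ),
              Function.update_of_ne (ne_of_mem_of_not_mem hj hnJ)]
          rw [hsum]
          rw [map_pow (algebraMap B L)] at heq
          linear_combination heq

end NF

section Pole

variable {B L : Type u} [CommRing B] [IsDomain B] [IsDiscreteValuationRing B]
  [Field L] [Algebra B L] [IsFractionRing B L]

/-- Every element of the fraction field has a bounded pole. -/
theorem exists_pole_bound {ϖ : B} (hϖ : Irreducible ϖ) (ξ : L) :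
    ∃ (n : ℕ) (b : B), ξ * (algebraMap B L ϖ) ^ n = algebraMap B L b := by
  by_cases hξ0 : ξ = 0
  · exact ⟨0, 0, by rw [hξ0, zero_mul, map_zero]⟩
  obtain ⟨n, u, hu⟩ :=
    IsDiscreteValuationRing.exists_units_eq_smul_zpow_of_irreducible (K := L) hϖ hξ0
  have hP0 : algebraMap B L ϖ ≠ 0 := by
    intro h0
    exact hϖ.ne_zero (IsFractionRing.injective B L (h0.trans (map_zero _).symm))
  rcases le_or_gt 0 n with hn | hn
  · obtain ⟨m, rfl⟩ := Int.eq_ofNat_of_zero_le hn
    refine ⟨0, (u : B) * ϖ ^ m, ?_⟩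
    rw [pow_zero, mul_one, hu, zpow_natCast, map_mul, map_pow, Units.smul_def,
      Algebra.smul_def]
  · obtain ⟨m, hm⟩ : ∃ m : ℕ, n = -(m : ℤ) := ⟨(-n).toNat, by omega⟩
    refine ⟨m, u, ?_⟩
    rw [hu, hm, zpow_neg, zpow_natCast, Units.smul_def, Algebra.smul_def, mul_assoc,
      inv_mul_cancel₀ (pow_ne_zero _ hP0), mul_one]

end Pole

section Rational

variable {p : ℕ} [hp : Fact p.Prime] {A₁ K₁ : Type u}
  [CommRing A₁] [IsDomain A₁] [IsDiscreteValuationRing A₁]
  [Field K₁] [Algebra A₁ K₁] [IsFractionRing A₁ K₁] [CharP K₁ p]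

/-- Over a discrete valuation ring with perfect residue field, every Artin–Schreier class is
integral or has a pole of order prime to `p`. -/
theorem rational_normal_form (π₁ : A₁) (hπ₁ : maximalIdeal A₁ = Ideal.span {π₁})
    (hperf : ∀ a : A₁, ∃ a' : A₁, residue A₁ a = residue A₁ a' ^ p) :
    ∀ (n : ℕ) (ρ : K₁) (a : A₁), ρ * (algebraMap A₁ K₁ π₁) ^ n = algebraMap A₁ K₁ a →
      ∃ y : K₁, (∃ a₀ : A₁, ρ + wp p y = algebraMap A₁ K₁ a₀) ∨
        ∃ m : ℕ, 0 < m ∧ ¬ p ∣ m ∧ ∃ u : A₁ˣ,
          (ρ + wp p y) * (algebraMap A₁ K₁ π₁) ^ m = algebraMap A₁ K₁ u := by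
  classical
  have hπirr : Irreducible π₁ :=
    (IsDiscreteValuationRing.irreducible_iff_uniformizer π₁).mpr hπ₁
  have hw : EtRam.IsWeaklyUnramified A₁ A₁ := by
    unfold EtRam.IsWeaklyUnramified
    rw [Algebra.algebraMap_self, Ideal.map_id]
  set P : K₁ := algebraMap A₁ K₁ π₁ with hP
  have hP0 : P ≠ 0 := by
    intro h0
    exact hπirr.ne_zero (IsFractionRing.injective A₁ K₁ (h0.trans (map_zero _).symm))
  intro n
  induction n using Nat.strong_induction_on with
  | _ n ih =>
    intro ρ a hρ
    rcases Nat.eq_zero_or_pos n with hn0 | hnpos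
    · refine ⟨0, Or.inl ⟨a, ?_⟩⟩
      rw [hn0, pow_zero, mul_one] at hρ
      rw [wp_zero, add_zero, hρ]
    by_cases ham : a ∈ maximalIdeal A₁
    · obtain ⟨a', ha'⟩ := exists_eq_add_of_residue_eq hw hπ₁ (b := a) (b₁ := 0)
        (by rw [map_zero]; exact (residue_eq_zero_iff a).mpr ham)
      rw [zero_add, Algebra.algebraMap_self, RingHom.id_apply] at ha'
      have h1 : ρ * P ^ n = 0 + P * algebraMap A₁ K₁ a' := by
        rw [hρ, ha', map_mul, zero_add]
      have h2 := sub_lead hP0 hnpos h1
      rw [mul_zero, sub_zero] at h2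
      exact ih (n - 1) (by omega) ρ a' h2
    have hau : IsUnit a := by
      by_contra h
      exact ham ((mem_maximalIdeal a).mpr h)
    by_cases hpn : p ∣ n
    · obtain ⟨m, hm⟩ := hpn
      have hmpos : 0 < m := by
        rcases Nat.eq_zero_or_pos m with h0 | h0
        · rw [h0, mul_zero] at hm; omega
        · exact h0
      have hp2 := hp.out.two_le
      have hmn : m ≤ n - 1 := by
        have : 2 * m ≤ n := by rw [hm]; exact Nat.mul_le_mul_right m hp2
        omega
      obtain ⟨c, hc⟩ := hperf a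
      obtain ⟨a'', ha''⟩ := exists_eq_add_of_residue_eq hw hπ₁ (b := a) (b₁ := c ^ p)
        (by rw [hc, map_pow])
      rw [Algebra.algebraMap_self, RingHom.id_apply] at ha''
      set x : K₁ := (P ^ m)⁻¹ * algebraMap A₁ K₁ c with hx
      have hxp : x ^ p = (P ^ n)⁻¹ * algebraMap A₁ K₁ (c ^ p) := by
        rw [hx, mul_pow, inv_pow, ← pow_mul, mul_comm m p, ← hm, map_pow]
      have h1 : ρ * P ^ n = algebraMap A₁ K₁ (c ^ p) + P * algebraMap A₁ K₁ a'' := by
        rw [hρ, ha'', map_add, map_mul]
      have h2 := sub_lead hP0 hnpos h1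
      set ρ' : K₁ := x + (ρ - (P ^ n)⁻¹ * algebraMap A₁ K₁ (c ^ p)) with hρ'
      have h3 : ρ' * P ^ (n - 1) = algebraMap A₁ K₁ (π₁ ^ (n - 1 - m) * c + a'') := by
        rw [hρ', add_mul, h2, map_add, map_mul, map_pow, hx]
        congr 1
        have : P ^ (n - 1) = P ^ m * P ^ (n - 1 - m) := by
          rw [← pow_add, Nat.add_sub_cancel' hmn]
        rw [this]
        have hPm : P ^ m ≠ 0 := pow_ne_zero _ hP0
        rw [← hP]
        field_simp
      obtain ⟨y, hy⟩ := ih (n - 1) (by omega) ρ' _ h3
      have key : ρ + wp p (y - x) = ρ' + wp p y := by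
        rw [wp_sub, hρ', ← hxp]
        unfold wp
        ring
      refine ⟨y - x, ?_⟩
      rw [key]
      exact hy
    · refine ⟨0, Or.inr ⟨n, hnpos, hpn, hau.unit, ?_⟩⟩
      rw [wp_zero, add_zero, hρ, IsUnit.unit_spec]

end Rational

end Groth.Agent.Lib.Helper18.EppAS
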