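import Mathlib
import Groth.Prelude.Def_EtRam
import Groth.Agent.Lib.Helper18.EppAS.NormalForm
import Groth.Agent.Lib.Helper18.AS.CaseB
import Groth.Agent.Lib.Helper24.Tame.Tower

/-! # Towers of totally ramified extensions; killing the rational part -/

set_option autoImplicit false
set_option linter.style.haveILetI false

namespace Groth.Agent.Lib.Helper18.EppAS

open Polynomial IsLocalRing EtRam IntermediateField
open Groth.Agent.Lib.Helper24.TameTower

universe u

section Trans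

variable {A K K₁ K₂ : Type u} [CommRing A] [IsDomain A] [IsDiscreteValuationRing A] [Field K]
  [Algebra A K] [IsFractionRing A K] [Field K₁] [Field K₂]
  [Algebra K K₁] [Algebra K K₂] [Algebra K₁ K₂] [IsScalarTower K K₁ K₂]

theorem dominates_of_comap_eq {V₁ : ValuationSubring K₁} {W : ValuationSubring K₂}
    (h : W.comap (algebraMap K₁ K₂) = V₁) :
    Dominates V₁ ((algebraMap K₁ K₂).comp V₁.subtype) W := by
  subst h
  exact dominates_of_comap W

/-- Total ramification is transitive. -/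
theorem totRam_trans (h₁ : IsTotallyRamified A (gL A K K₁))
    (h₂ : ∀ V₁ : ValuationSubring K₁, Dominates A (gL A K K₁) V₁ →
      IsTotallyRamified V₁ ((algebraMap K₁ K₂).comp V₁.subtype)) :
    IsTotallyRamified A (gM A K K₂) := by
  obtain ⟨⟨V₁, hV₁⟩, huniq₁, hsurj₁⟩ := h₁
  obtain ⟨⟨V₂, hV₂⟩, huniq₂, hsurj₂⟩ := h₂ V₁ hV₁
  have hcomap : ∀ V : ValuationSubring K₂, Dominates A (gM A K K₂) V →
      V.comap (algebraMap K₁ K₂) = V₁ :=
    fun V hV => huniq₁ _ _ (dominates_comap (L := K₁) hV) hV₁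
  refine ⟨⟨V₂, dominates_trans hV₁ hV₂⟩, fun V V' hV hV' => ?_, fun V hV x => ?_⟩
  · exact huniq₂ V V' (dominates_of_comap_eq (hcomap V hV)) (dominates_of_comap_eq (hcomap V' hV'))
  · have hVV₁ := dominates_of_comap_eq (hcomap V hV)
    obtain ⟨v₁, hv₁⟩ := hsurj₂ V hVV₁ x
    obtain ⟨a, ha⟩ := hsurj₁ V₁ hV₁ (residue V₁ v₁)
    refine ⟨a, ?_⟩
    rw [← hv₁]
    simp only at ha ⊢
    have hmem : (RingHom.codRestrict (gL A K K₁) V₁ hV₁.1 a) - v₁ ∈ maximalIdeal V₁ := by
      rw [← residue_eq_zero_iff, map_sub, ha, sub_self]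
    have hlt := hVV₁.2 _ hmem
    rw [← sub_eq_zero, ← map_sub, residue_eq_zero_iff, ValuationSubring.valuation_lt_one_iff]
    have : ((RingHom.codRestrict (gM A K K₂) V hV.1 a -
        RingHom.codRestrict ((algebraMap K₁ K₂).comp V₁.subtype) V hVV₁.1 v₁ : V) : K₂) =
        ((algebraMap K₁ K₂).comp V₁.subtype)
          ((RingHom.codRestrict (gL A K K₁) V₁ hV₁.1 a) - v₁) := by
      rw [map_sub]
      show gM A K K₂ a - algebraMap K₁ K₂ (v₁ : K₁) =
        algebraMap K₁ K₂ (gL A K K₁ a) - algebraMap K₁ K₂ (v₁ : K₁)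
      rw [gM_eq A K K₁ K₂]
    rw [this]
    exact hlt

end Trans

section K2

variable {p : ℕ} [hp : Fact p.Prime] {A K K₁ : Type u} [CommRing A] [IsDomain A]
  [IsDiscreteValuationRing A] [Field K]
  [Algebra A K] [IsFractionRing A K] [Field K₁] [Algebra K K₁] [CharP K p]
  [FiniteDimensional K K₁] [Algebra.IsSeparable K K₁]

/-- The residue field of the valuation ring of a totally ramified extension is perfect if the
residue field of `A` is. -/
theorem perfect_of_totRam (h₁ : IsTotallyRamified A (gL A K K₁))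
    (hperfA : ∀ a : A, ∃ a' : A, residue A a = residue A a' ^ p)
    (V₁ : ValuationSubring K₁) (hV₁ : Dominates A (gL A K K₁) V₁) (v : V₁) :
    ∃ v' : V₁, residue V₁ v = residue V₁ v' ^ p := by
  obtain ⟨a, ha⟩ := h₁.2.2 V₁ hV₁ (residue V₁ v)
  simp only at ha
  obtain ⟨a', ha'⟩ := hperfA a
  refine ⟨RingHom.codRestrict (gL A K K₁) V₁ hV₁.1 a', ?_⟩
  rw [← ha, ← map_pow, ← sub_eq_zero, ← map_sub, residue_eq_zero_iff,
    ValuationSubring.valuation_lt_one_iff]
  have hmem : a - a' ^ p ∈ maximalIdeal A := by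
    rw [← residue_eq_zero_iff, map_sub, ha', map_pow, sub_self]
  have := hV₁.2 _ hmem
  rw [map_sub, map_pow] at this
  exact this

/-- Killing a rational Artin–Schreier class by a totally ramified extension. -/
theorem exists_K₂ (h₁ : IsTotallyRamified A (gL A K K₁))
    (hperfA : ∀ a : A, ∃ a' : A, residue A a = residue A a' ^ p) (ρ : K₁) :
    ∃ (K₂ : Type u) (_ : Field K₂) (_ : Algebra K K₂) (_ : Algebra K₁ K₂)
      (_ : IsScalarTower K K₁ K₂),
      FiniteDimensional K K₂ ∧ Algebra.IsSeparable K K₂ ∧ IsTotallyRamified A (gL A K K₂) ∧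
      ∃ (t : K₂) (a₁ : K₁), (∀ V₁ : ValuationSubring K₁, Dominates A (gL A K K₁) V₁ → a₁ ∈ V₁) ∧
        algebraMap K₁ K₂ ρ = wp p t + algebraMap K₁ K₂ a₁ := by
  classical
  haveI : CharP K₁ p := charP_of_injective_algebraMap (algebraMap K K₁).injective p
  obtain ⟨V₁, hV₁⟩ := h₁.1
  haveI : IsDiscreteValuationRing V₁ :=
    Groth.Agent.Lib.Helper24.TameDVR.isDVR_of_dominates A K K₁ V₁ hV₁
  obtain ⟨π₁, hπ₁irr⟩ := IsDiscreteValuationRing.exists_irreducible V₁
  have hπ₁ : maximalIdeal V₁ = Ideal.span {π₁} := hπ₁irr.maximalIdeal_eq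
  have hperf := perfect_of_totRam h₁ hperfA V₁ hV₁
  -- a pole order bound for `ρ`
  have hpole : ∃ (n : ℕ) (a : V₁), ρ * (algebraMap V₁ K₁ π₁) ^ n = algebraMap V₁ K₁ a := by
    by_cases hρ0 : ρ = 0
    · exact ⟨0, 0, by rw [hρ0, zero_mul, map_zero]⟩
    obtain ⟨n, u, hu⟩ :=
      IsDiscreteValuationRing.exists_units_eq_smul_zpow_of_irreducible (K := K₁) hπ₁irr hρ0
    have hP0 : algebraMap V₁ K₁ π₁ ≠ 0 := by
      intro h0
      exact hπ₁irr.ne_zero (IsFractionRing.injective V₁ K₁ (h0.trans (map_zero _).symm))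
    rcases le_or_gt 0 n with hn | hn
    · obtain ⟨m, rfl⟩ := Int.eq_ofNat_of_zero_le hn
      refine ⟨0, (u : V₁) * π₁ ^ m, ?_⟩
      rw [pow_zero, mul_one, hu, zpow_natCast, map_mul, map_pow, Units.smul_def,
        Algebra.smul_def]
    · obtain ⟨m, hm⟩ : ∃ m : ℕ, n = -(m : ℤ) := ⟨(-n).toNat, by omega⟩
      refine ⟨m, u, ?_⟩
      rw [hu, hm, zpow_neg, zpow_natCast, Units.smul_def, Algebra.smul_def, mul_assoc,
        inv_mul_cancel₀ (pow_ne_zero _ hP0), mul_one]
  obtain ⟨n, a, hρ⟩ := hpole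
  obtain ⟨y, hy⟩ := rational_normal_form (p := p) π₁ hπ₁ hperf n ρ a hρ
  rcases hy with ⟨a₀, ha₀⟩ | ⟨m, hm, hpm, u, hu⟩
  · -- integral: nothing to do
    refine ⟨K₁, inferInstance, inferInstance, inferInstance, inferInstance, inferInstance,
      inferInstance, h₁, -y, (a₀ : K₁), ?_, ?_⟩
    · intro V₁' hV₁'
      obtain rfl := h₁.2.1 V₁' V₁ hV₁' hV₁
      exact a₀.2
    · rw [Algebra.algebraMap_self, RingHom.id_apply, RingHom.id_apply, wp_neg]
      have : (a₀ : K₁) = algebraMap V₁ K₁ a₀ := rfl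
      rw [this, ← ha₀]; ring
  · -- pole of order prime to `p`: adjoin a root of the Artin–Schreier polynomial
    set η : K₁ := ρ + wp p y with hη
    have hfdeg : 0 < (AS.asPoly p η).natDegree := by
      rw [AS.asPoly_natDegree]; exact hp.out.pos
    obtain ⟨f₀, hf₀irr, hf₀dvd⟩ := exists_irreducible_of_natDegree_pos hfdeg
    haveI : Fact (Irreducible f₀) := ⟨hf₀irr⟩
    set z : AdjoinRoot f₀ := AdjoinRoot.root f₀ with hzdef
    have hroot : aeval z (AS.asPoly p η) = 0 := by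
      obtain ⟨g, hg⟩ := hf₀dvd
      rw [hg, map_mul, AdjoinRoot.aeval_eq, AdjoinRoot.mk_self, zero_mul]
    have hz : z ^ p - z = algebraMap K₁ (AdjoinRoot f₀) η := by
      have h := hroot
      unfold AS.asPoly at h
      rw [map_sub, map_sub, map_pow, aeval_X, aeval_C] at h
      exact sub_eq_zero.mp h
    have hgen : K₁⟮z⟯ = ⊤ := by
      apply IntermediateField.toSubalgebra_injective
      rw [IntermediateField.top_toSubalgebra, eq_top_iff, ← AdjoinRoot.adjoinRoot_eq_top]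
      exact IntermediateField.algebra_adjoin_le_adjoin K₁ _
    haveI hfd : FiniteDimensional K₁ (AdjoinRoot f₀) := AS.as_finiteDimensional hz hgen
    haveI hgal : IsGalois K₁ (AdjoinRoot f₀) := AS.as_isGalois hz hgen
    have hcase := AS.caseB (A := V₁) (K := K₁) (L := AdjoinRoot f₀) hz hgen π₁ hπ₁ m u hm hpm hu
    have halg : algebraMap V₁ (AdjoinRoot f₀) =
        (algebraMap K₁ (AdjoinRoot f₀)).comp V₁.subtype :=
      IsScalarTower.algebraMap_eq V₁ K₁ (AdjoinRoot f₀)
    haveI : CharP (AdjoinRoot f₀) p :=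
      charP_of_injective_algebraMap (algebraMap K₁ (AdjoinRoot f₀)).injective p
    have hfinK : FiniteDimensional K (AdjoinRoot f₀) := Module.Finite.trans K₁ (AdjoinRoot f₀)
    have hsepK : Algebra.IsSeparable K (AdjoinRoot f₀) :=
      Algebra.IsSeparable.trans K K₁ (AdjoinRoot f₀)
    refine ⟨AdjoinRoot f₀, inferInstance, inferInstance, inferInstance, inferInstance, hfinK,
      hsepK, ?_, z - algebraMap K₁ (AdjoinRoot f₀) y, 0, fun V _ => V.zero_mem, ?_⟩
    · refine totRam_trans h₁ fun V₁' hV₁' => ?_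
      obtain rfl := h₁.2.1 V₁' V₁ hV₁' hV₁
      rw [← halg]
      exact hcase.1
    · rw [map_zero, add_zero, wp_sub]
      have h1 : wp p z = algebraMap K₁ (AdjoinRoot f₀) η := hz
      have h2 : wp p (algebraMap K₁ (AdjoinRoot f₀) y) = algebraMap K₁ (AdjoinRoot f₀) (wp p y) := by
        unfold wp
        rw [map_sub, map_pow]
      rw [h1, h2, hη, map_add]; ring

end K2

end Groth.Agent.Lib.Helper18.EppAS
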