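import Mathlib
import Groth.Prelude.Def_EtRam
import Groth.Agent.Lib.Helper18.EppAS.Tower
import Groth.Agent.Lib.Helper18.Eis.Tower

/-! # An Artin–Schreier extension in good form is weakly unramified -/

set_option autoImplicit false
set_option linter.style.haveILetI false

namespace Groth.Agent.Lib.Helper18.EppAS

open Polynomial IsLocalRing EtRam IntermediateField
open Groth.Agent.Lib.Helper24.TameTower

universe u

variable {p : ℕ} [hp : Fact p.Prime] {F M₂ : Type u} [Field F] [Field M₂] [Algebra F M₂]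
  [CharP F p]

/-- If `ξ₂` is integral or has a pole of order divisible by `p` with leading coefficient not a
`p`-th power in the residue field, then every valuation ring of `F(z)`, `z^p - z = ξ₂`, over `O`
is weakly unramified over `O`. -/
theorem weak_of_good (O : ValuationSubring F) [IsDiscreteValuationRing O]
    {ξ₂ : F} {z : M₂} (hz : z ^ p - z = algebraMap F M₂ ξ₂) (hgen : F⟮z⟯ = ⊤)
    (hgood : ξ₂ ∈ O ∨ ∃ (θ r δ : F) (E₀ : ℕ), θ ≠ 0 ∧ θ ∈ O ∧ O.valuation θ < 1 ∧ r ∈ O ∧
      O.valuation δ < 1 ∧ 0 < E₀ ∧ (∀ x ∈ O, ¬ O.valuation (r - x ^ p) < 1) ∧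
      ξ₂ = ((θ⁻¹) ^ E₀) ^ p * (r + δ))
    (W : ValuationSubring M₂) (hW : W.comap (algebraMap F M₂) = O) :
    ∀ x : M₂, W.valuation x < 1 →
      ∃ o ∈ O, O.valuation o < 1 ∧ ∃ w ∈ W, x = algebraMap F M₂ o * w := by
  classical
  obtain ⟨ϖ, hϖ⟩ := IsDiscreteValuationRing.exists_irreducible O
  have hdom : Dominates O (algebraMap O M₂) W := dominates_of_comap_eq hW
  -- from weak unramifiedness to the elementwise statement
  have hfromWU : (letI : Algebra O W := (RingHom.codRestrict (algebraMap O M₂) W hdom.1).toAlgebra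
      IsWeaklyUnramified O W) → ∀ x : M₂, W.valuation x < 1 →
      ∃ o ∈ O, O.valuation o < 1 ∧ ∃ w ∈ W, x = algebraMap F M₂ o * w := by
    intro hwu x hx
    letI : Algebra O W := (RingHom.codRestrict (algebraMap O M₂) W hdom.1).toAlgebra
    have hxW : x ∈ W := (W.valuation_le_one_iff _).mp hx.le
    have hxm : (⟨x, hxW⟩ : W) ∈ maximalIdeal W := (W.valuation_lt_one_iff _).mpr hx
    rw [← hwu] at hxm
    obtain ⟨o, ho, s, hs⟩ := Eis.exists_mul_of_mem_map (algebraMap O W) (maximalIdeal O) hxm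
    refine ⟨(o : F), o.2, (O.valuation_lt_one_iff _).mp ho, (s : M₂), s.2, ?_⟩
    have := congrArg Subtype.val hs
    simp only at this
    rw [this, mul_comm]
    rfl
  rcases hgood with hint | ⟨θ, r, δ, E₀, hθ0, hθO, hθv, hrO, hδv, hE₀, hnp, hξ₂⟩
  · -- integral case
    rcases AS.caseA (A := O) (K := F) (L := M₂) hz hgen ϖ hϖ ⟨ξ₂, hint⟩ rfl with h1 | h2
    · -- trivial extension
      intro x hx
      have hbij : Function.Surjective (algebraMap F M₂) := by
        have hbt : (⊥ : Subalgebra F M₂) = ⊤ := Subalgebra.bot_eq_top_iff_finrank_eq_one.mpr h1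
        exact Algebra.surjective_algebraMap_iff.mpr hbt.symm
      obtain ⟨x', rfl⟩ := hbij x
      have hx'O : x' ∈ O := by
        rw [← hW, ValuationSubring.mem_comap]
        exact (W.valuation_le_one_iff _).mp hx.le
      refine ⟨x', hx'O, ?_, 1, W.one_mem, (mul_one _).symm⟩
      rw [← hW, comap_valuation_lt_one_iff]
      exact hx
    · apply hfromWU
      haveI := isLocalHom_of_dominates hdom
      exact (h2.1 W hdom).1
  · -- pole of order divisible by `p`
    have hδO : δ ∈ O := (O.valuation_le_one_iff _).mp hδv.le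
    have hθ' : (⟨θ, hθO⟩ : O) ≠ 0 := fun h => hθ0 (congrArg Subtype.val h)
    obtain ⟨e', u, hu⟩ := IsDiscreteValuationRing.eq_unit_mul_pow_irreducible hθ' hϖ
    have hue : θ = (u : O) * (ϖ : F) ^ e' := by
      have := congrArg Subtype.val hu
      simpa using this
    have he' : 0 < e' := by
      rcases Nat.eq_zero_or_pos e' with h0 | h0
      · exfalso
        rw [h0, pow_zero, mul_one] at hue
        have h1 : O.valuation θ = 1 := by
          rw [hue]; exact O.valuation_unit u
        rw [h1] at hθv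
        exact lt_irrefl _ hθv
      · exact h0
    have hu0 : ((u : O) : F) ≠ 0 := by
      intro h0
      exact u.ne_zero (Subtype.ext h0)
    have hϖ0 : (ϖ : F) ≠ 0 := fun h0 => hϖ.ne_zero (Subtype.ext h0)
    set uinv : O := ((u⁻¹ : Oˣ) : O) with huinv
    have huinv_mul : (uinv : F) * ((u : O) : F) = 1 := by
      have h := congrArg Subtype.val (Units.inv_mul u)
      exact h
    set a : O := (uinv ^ E₀) ^ p * (⟨r, hrO⟩ + ⟨δ, hδO⟩) with ha
    have hcase := AS.caseC (A := O) (K := F) (L := M₂) hz hgen ϖ hϖ (p * (e' * E₀)) a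
      (Nat.mul_pos hp.out.pos (Nat.mul_pos he' hE₀)) (Dvd.intro _ rfl) ?_ ?_
    · apply hfromWU
      haveI := isLocalHom_of_dominates hdom
      exact (hcase.2.2 W hdom).1
    · -- the residue of `a` is not a `p`-th power
      intro x hx
      have hδm : (⟨δ, hδO⟩ : O) ∈ maximalIdeal O := (O.valuation_lt_one_iff _).mpr hδv
      have h1 : residue O a = (residue O uinv ^ E₀) ^ p * residue O ⟨r, hrO⟩ := by
        rw [ha, map_mul, map_pow, map_pow, map_add, (residue_eq_zero_iff _).mpr hδm, add_zero]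
      have h2 : residue O uinv * residue O (u : O) = 1 := by
        rw [← map_mul, huinv, Units.inv_mul, map_one]
      have h3 : residue O ⟨r, hrO⟩ = residue O ((u : O) ^ E₀ * x) ^ p := by
        rw [map_mul, map_pow, mul_pow, ← hx, h1, ← mul_assoc, ← mul_pow, ← mul_pow,
          mul_comm (residue O (u : O)), h2, one_pow, one_pow, one_mul]
      apply hnp (((u : O) ^ E₀ * x : O) : F) ((u : O) ^ E₀ * x : O).2
      have h4 : (⟨r, hrO⟩ : O) - ((u : O) ^ E₀ * x) ^ p ∈ maximalIdeal O := by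
        rw [← residue_eq_zero_iff, map_sub, map_pow, h3, sub_self]
      exact (O.valuation_lt_one_iff _).mp h4
    · -- the relation
      show ξ₂ * (ϖ : F) ^ (p * (e' * E₀)) = (a : F)
      have ha' : (a : F) = ((uinv : F) ^ E₀) ^ p * (r + δ) := by
        rw [ha]; rfl
      rw [ha', hξ₂, hue]
      have h5 : (((u : O) : F) * (ϖ : F) ^ e')⁻¹ = (uinv : F) * ((ϖ : F) ^ e')⁻¹ := by
        rw [mul_inv]
        congr 1
        exact (eq_inv_of_mul_eq_one_left huinv_mul).symm
      rw [h5]
      have h6 : ((ϖ : F) ^ e')⁻¹ ^ E₀ * (ϖ : F) ^ (e' * E₀) = 1 := by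
        rw [inv_pow, ← pow_mul, inv_mul_cancel₀ (pow_ne_zero _ hϖ0)]
      calc (((uinv : F) * ((ϖ : F) ^ e')⁻¹) ^ E₀) ^ p * (r + δ) * (ϖ : F) ^ (p * (e' * E₀))
          = ((uinv : F) ^ E₀) ^ p * (r + δ) *
              (((ϖ : F) ^ e')⁻¹ ^ E₀ * (ϖ : F) ^ (e' * E₀)) ^ p := by
            rw [mul_comm p (e' * E₀), pow_mul]; ring
        _ = _ := by rw [h6, one_pow, mul_one]

end Groth.Agent.Lib.Helper18.EppAS
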