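import Mathlib

/-! # The compositum inside a field, as an intermediate field -/

set_option autoImplicit false
set_option linter.style.haveILetI false

namespace Groth.Agent.Lib.Helper18.EppAS

open IntermediateField

universe u

section

variable {L K₂ M₂ : Type u} [Field L] [Field K₂] [Field M₂] [Algebra L M₂] [Algebra K₂ M₂]

/-- The compositum of `L` and `K₂` inside `M₂` is generated as an algebra. -/
theorem adjoin_range_eq_top (F : IntermediateField L M₂)
    (hF : F = adjoin L (Set.range (algebraMap K₂ M₂)))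
    (halg : ∀ k : K₂, IsAlgebraic L (algebraMap K₂ M₂ k)) (g : K₂ →+* F)
    (hg : ∀ x, (g x : M₂) = algebraMap K₂ M₂ x) :
    Algebra.adjoin L (Set.range g) = ⊤ := by
  rw [eq_top_iff]
  intro x _
  have halg' : ∀ y ∈ Set.range (algebraMap K₂ M₂), IsAlgebraic L y := by
    rintro _ ⟨k, rfl⟩
    exact halg k
  have h0 : F.toSubalgebra = Algebra.adjoin L (Set.range (algebraMap K₂ M₂)) := by
    rw [hF, adjoin_toSubalgebra_of_isAlgebraic halg']
  have h1 : (x : M₂) ∈ Algebra.adjoin L (Set.range (algebraMap K₂ M₂)) := by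
    rw [← h0]; exact x.2
  have himg : Set.range (algebraMap K₂ M₂) = (F.val : F → M₂) '' Set.range g := by
    ext y
    constructor
    · rintro ⟨k, rfl⟩
      exact ⟨g k, ⟨k, rfl⟩, hg k⟩
    · rintro ⟨_, ⟨k, rfl⟩, rfl⟩
      exact ⟨k, (hg k).symm⟩
  have h2 : (x : M₂) ∈ Subalgebra.map F.val (Algebra.adjoin L (Set.range g)) := by
    rw [← Algebra.adjoin_image, ← himg]; exact h1
  obtain ⟨x', hx', hxx'⟩ := h2
  have : x' = x := Subtype.ext hxx'
  rw [← this]
  exact hx'

end

section

variable {L M K₂ M₂ : Type u} [Field L] [Field M] [Field K₂] [Field M₂]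
  [Algebra L M] [Algebra L M₂] [Algebra M M₂] [Algebra K₂ M₂] [IsScalarTower L M M₂]

/-- `M₂ = F(z)` when `M = L(z)` and `M₂` is generated over `M` by `K₂`. -/
theorem adjoin_z_eq_top (F : IntermediateField L M₂)
    (hF : ∀ k : K₂, algebraMap K₂ M₂ k ∈ F) {z : M} (hz : L⟮z⟯ = ⊤)
    (hgen : Algebra.adjoin M (Set.range (algebraMap K₂ M₂)) = ⊤) (y : F) :
    F⟮algebraMap M M₂ z + (y : M₂)⟯ = ⊤ := by
  set z₂ : M₂ := algebraMap M M₂ z + (y : M₂) with hz₂
  set T : IntermediateField F M₂ := F⟮z₂⟯ with hT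
  have hFT : ∀ x : M₂, x ∈ F → x ∈ T := fun x hx => by
    have : x = algebraMap F M₂ ⟨x, hx⟩ := rfl
    rw [this]; exact T.algebraMap_mem _
  have hzT : algebraMap M M₂ z ∈ T := by
    have h1 : z₂ ∈ T := mem_adjoin_simple_self F z₂
    have h2 : (y : M₂) ∈ T := hFT _ y.2
    have : algebraMap M M₂ z = z₂ - (y : M₂) := by rw [hz₂]; ring
    rw [this]; exact T.sub_mem h1 h2
  have hMT : ∀ m : M, algebraMap M M₂ m ∈ T := by
    intro m
    set T' : IntermediateField L M :=
      (T.restrictScalars L).comap (IsScalarTower.toAlgHom L M M₂) with hT'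
    have hle : L⟮z⟯ ≤ T' := adjoin_simple_le_iff.mpr hzT
    rw [hz] at hle
    have := hle (mem_top : m ∈ (⊤ : IntermediateField L M))
    exact this
  have key : ∀ x ∈ Algebra.adjoin M (Set.range (algebraMap K₂ M₂)), x ∈ T := by
    intro x hx
    induction hx using Algebra.adjoin_induction with
    | mem x hx =>
      obtain ⟨k, rfl⟩ := hx
      exact hFT _ (hF k)
    | algebraMap m => exact hMT m
    | add x y _ _ hx hy => exact T.add_mem hx hy
    | mul x y _ _ hx hy => exact T.mul_mem hx hy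
  rw [eq_top_iff]
  intro x _
  exact key x (by rw [hgen]; trivial)

end

end Groth.Agent.Lib.Helper18.EppAS
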