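import Mathlib
import Groth.Prelude.Def_EtRam
import Groth.Agent.Lib.Helper18.EppAS.Good
import Groth.Agent.Lib.Helper18.EppAS.Compositum
import Groth.Agent.Lib.Helper18.EppAS.SubF
import Groth.Agent.Lib.Helper18.Epp.K1Aux

/-! # The local analysis at one place of the compositum -/

set_option autoImplicit false
set_option linter.style.haveILetI false

namespace Groth.Agent.Lib.Helper18.EppAS

open Polynomial IsLocalRing EtRam IntermediateField
open Groth.Agent.Lib.Helper24.TameTower Groth.Agent.Lib.Helper18.Eis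

universe u

set_option maxHeartbeats 1600000 in
theorem place_weak {p : ℕ} [hp : Fact p.Prime] {A B C K L M K₂ : Type u}
    [CommRing A] [IsDomain A] [IsDiscreteValuationRing A] [CommRing B] [IsDomain B]
    [IsDiscreteValuationRing B] [CommRing C] [IsLocalRing C]
    [Algebra A B] [Algebra B C]
    [IsLocalHom (algebraMap A B)] [IsLocalHom (algebraMap B C)]
    [Field K] [Field L] [Field M] [Algebra A K] [IsFractionRing A K] [Algebra B L]
    [IsFractionRing B L]
    [Algebra C M] [Algebra K L] [Algebra L M] [Algebra K M] [IsScalarTower K L M]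
    [Algebra A L] [IsScalarTower A K L] [IsScalarTower A B L] [Algebra B M] [IsScalarTower B L M]
    [IsScalarTower B C M] [CharP K p]
    (hw : IsWeaklyUnramified A B) (π : A) (hπ : maximalIdeal A = Ideal.span {π})
    {z : M} {ξ : L} (hz : z ^ p - z = algebraMap L M ξ) (hgenM : L⟮z⟯ = ⊤)
    {n : ℕ} (hn : 0 < n) {y₀ : L} {ρ : K} {J : Finset ℕ} {s : ℕ → ℕ} {r : ℕ → B} {b₀ : B}
    (hJ : ∀ j ∈ J, 1 ≤ j ∧ j ≤ n) (hps : ∀ j ∈ J, p ∣ j → s j = 0)
    (hr : ∀ j ∈ J, ∀ c : B, residue B (r j) ≠ residue B c ^ p)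
    (hnf : ξ + wp p y₀ = algebraMap K L ρ +
      ∑ j ∈ J, ((algebraMap A L π) ^ j)⁻¹ * (algebraMap B L (r j)) ^ p ^ s j + algebraMap B L b₀)
    [Field K₂] [Algebra K K₂] [FiniteDimensional K K₂] [Algebra.IsSeparable K K₂]
    (ht : IsTotallyRamified A (gL A K K₂))
    {N : ℕ} (hsN : ∀ j ∈ J, s j < N) {θ₁ t a₁ bb : K₂}
    (hrel : θ₁ ^ p ^ N = algebraMap K K₂ (algebraMap A K π) *
      (1 + (algebraMap K K₂ (algebraMap A K π)) ^ n * bb))
    (hbb : ∀ V : ValuationSubring K₂, Dominates A (gL A K K₂) V → bb ∈ V)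
    (ha₁ : ∀ V : ValuationSubring K₂, Dominates A (gL A K K₂) V → a₁ ∈ V)
    (hρ : algebraMap K K₂ ρ = wp p t + a₁)
    (M₂ : Type u) [Field M₂] [Algebra K M₂] [Algebra M M₂] [Algebra K₂ M₂] [IsScalarTower K M M₂]
    [IsScalarTower K K₂ M₂]
    (hgen₂ : Algebra.adjoin M (Set.range (algebraMap K₂ M₂)) = ⊤) (W : ValuationSubring M₂)
    (hW : Dominates C ((algebraMap M M₂).comp (algebraMap C M)) W) :
    letI : Algebra (W.comap (algebraMap K₂ M₂)) W := (inclOfComap W (algebraMap K₂ M₂)).toAlgebra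
    IsWeaklyUnramified (W.comap (algebraMap K₂ M₂)) W := by
  classical
  have hπirr : Irreducible π := (IsDiscreteValuationRing.irreducible_iff_uniformizer π).mpr hπ
  -- `M₂` as an `L`-algebra
  letI algLM₂ : Algebra L M₂ := ((algebraMap M M₂).comp (algebraMap L M)).toAlgebra
  haveI : IsScalarTower L M M₂ := IsScalarTower.of_algebraMap_eq fun _ => rfl
  haveI : IsScalarTower K L M₂ := IsScalarTower.of_algebraMap_eq fun k => by
    show algebraMap K M₂ k = algebraMap M M₂ (algebraMap L M (algebraMap K L k))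
    rw [← IsScalarTower.algebraMap_apply K L M, ← IsScalarTower.algebraMap_apply K M M₂]
  haveI : CharP M₂ p := charP_of_injective_algebraMap (algebraMap K M₂).injective p
  haveI : CharP L p := charP_of_injective_algebraMap (algebraMap K L).injective p
  haveI : CharP M p := charP_of_injective_algebraMap (algebraMap K M).injective p
  haveI : CharP K₂ p := charP_of_injective_algebraMap (algebraMap K K₂).injective p
  -- the compositum
  obtain ⟨F, hFdef⟩ : ∃ F : IntermediateField L M₂,
      F = adjoin L (Set.range (algebraMap K₂ M₂)) := ⟨_, rfl⟩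
  have hK₂F : ∀ k : K₂, algebraMap K₂ M₂ k ∈ F := fun k => by
    rw [hFdef]; exact subset_adjoin L _ ⟨k, rfl⟩
  letI algK₂F : Algebra K₂ F := (RingHom.codRestrict (algebraMap K₂ M₂) F hK₂F).toAlgebra
  haveI : IsScalarTower K₂ F M₂ := IsScalarTower.of_algebraMap_eq fun _ => rfl
  haveI : IsScalarTower K F M₂ := IsScalarTower.of_algebraMap_eq fun _ => rfl
  haveI : IsScalarTower K K₂ F := IsScalarTower.of_algebraMap_eq fun k => by
    apply Subtype.ext
    show algebraMap K M₂ k = algebraMap K₂ M₂ (algebraMap K K₂ k)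
    rw [← IsScalarTower.algebraMap_apply K K₂ M₂]
  letI algBF : Algebra B F := ((algebraMap L F).comp (algebraMap B L)).toAlgebra
  haveI : IsScalarTower B L F := IsScalarTower.of_algebraMap_eq fun _ => rfl
  letI algAK₂ : Algebra A K₂ := (gL A K K₂).toAlgebra
  haveI : IsScalarTower A K K₂ := IsScalarTower.of_algebraMap_eq fun _ => rfl
  haveI : CharP F p := charP_of_injective_algebraMap (algebraMap L F).injective p
  haveI : Algebra.IsAlgebraic K K₂ := Algebra.IsAlgebraic.of_finite K K₂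
  have halgK₂ : ∀ k : K₂, IsAlgebraic L (algebraMap K₂ M₂ k) := fun k => by
    have h1 : IsAlgebraic K k := Algebra.IsAlgebraic.isAlgebraic k
    have h2 : IsAlgebraic K (algebraMap K₂ M₂ k) := h1.algebraMap
    exact h2.tower_top L
  have hgenF : Algebra.adjoin L (Set.range (algebraMap K₂ F)) = ⊤ :=
    adjoin_range_eq_top F hFdef halgK₂ (algebraMap K₂ F) (fun _ => rfl)
  -- uniformizer data of `K₂`
  have ht' : IsTotallyRamified A (algebraMap A K₂) := ht
  obtain ⟨π₂, w₀, h1, h2, h3, h4, hrel₂, hspan⟩ := exists_uniformizer_data (K := K) ht' π hπ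
  have d : UData K π π₂ w₀ (Module.finrank K K₂) :=
    ⟨hπ, Module.finrank_pos, h1, h2, h3, h4, hrel₂, hspan⟩
  -- the valuation ring of `F`
  obtain ⟨O, hOdef⟩ : ∃ O : ValuationSubring F, O = W.comap (algebraMap F M₂) := ⟨_, rfl⟩
  have hBM₂ : ∀ b : B, algebraMap F M₂ (algebraMap B F b) =
      ((algebraMap M M₂).comp (algebraMap C M)) (algebraMap B C b) := by
    intro b
    show algebraMap M M₂ (algebraMap L M (algebraMap B L b)) =
      algebraMap M M₂ (algebraMap C M (algebraMap B C b))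
    rw [← IsScalarTower.algebraMap_apply B L M, ← IsScalarTower.algebraMap_apply B C M]
  have hO : Dominates B (algebraMap B F) O := by
    constructor
    · intro b
      rw [hOdef, ValuationSubring.mem_comap, hBM₂]
      exact hW.1 _
    · intro b hb
      rw [hOdef, comap_valuation_lt_one_iff, hBM₂]
      apply hW.2
      rw [mem_maximalIdeal, mem_nonunits_iff]
      intro hu
      exact (mem_maximalIdeal b).mp hb (isUnit_of_map_unit (algebraMap B C) b hu)
  haveI : IsDiscreteValuationRing O := isDVR_F d hgenF O hO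
  -- elements of `F`
  set πF : F := algebraMap K F (algebraMap A K π) with hπFdef
  have hAF : ∀ a : A, algebraMap K F (algebraMap A K a) = algebraMap B F (algebraMap A B a) := by
    intro a
    show _ = algebraMap L F (algebraMap B L (algebraMap A B a))
    rw [IsScalarTower.algebraMap_apply K L F, ← IsScalarTower.algebraMap_apply A K L,
      ← IsScalarTower.algebraMap_apply A B L]
  have hπB_mem : algebraMap A B π ∈ maximalIdeal B := by
    rw [mem_maximalIdeal, mem_nonunits_iff]
    intro hu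
    exact hπirr.not_isUnit (isUnit_of_map_unit (algebraMap A B) π hu)
  have hπO : πF ∈ O := by rw [hπFdef, hAF]; exact hO.1 _
  have hπFv : O.valuation πF < 1 := by rw [hπFdef, hAF]; exact hO.2 _ hπB_mem
  have hπF0 : πF ≠ 0 := by
    rw [hπFdef]
    intro h0
    have h1 : algebraMap A K π = 0 := (algebraMap K F).injective (h0.trans (map_zero _).symm)
    exact hπirr.ne_zero (IsFractionRing.injective A K (h1.trans (map_zero _).symm))
  -- the valuation ring of `K₂`
  have hV₂ : Dominates A (gL A K K₂) (O.comap (algebraMap K₂ F)) := by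
    have hcomp : ∀ a : A, algebraMap K₂ F (gL A K K₂ a) = algebraMap B F (algebraMap A B a) := by
      intro a
      show algebraMap K₂ F (algebraMap K K₂ (algebraMap A K a)) = _
      rw [← IsScalarTower.algebraMap_apply K K₂ F, hAF]
    constructor
    · intro a
      rw [ValuationSubring.mem_comap, hcomp]
      exact hO.1 _
    · intro a ha
      rw [comap_valuation_lt_one_iff, hcomp]
      apply hO.2
      rw [mem_maximalIdeal, mem_nonunits_iff]
      intro hu
      exact (mem_maximalIdeal a).mp ha (isUnit_of_map_unit (algebraMap A B) a hu)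
  set θF : F := algebraMap K₂ F θ₁ with hθFdef
  set tF : F := algebraMap K₂ F t with htFdef
  set a₁F : F := algebraMap K₂ F a₁ with ha₁Fdef
  set bbF : F := algebraMap K₂ F bb with hbbFdef
  have hbbO : bbF ∈ O := ValuationSubring.mem_comap.mp (hbb _ hV₂)
  have ha₁O : a₁F ∈ O := ValuationSubring.mem_comap.mp (ha₁ _ hV₂)
  set wF : F := 1 + πF ^ n * bbF with hwFdef
  have hrelF : θF ^ p ^ N = πF * wF := by
    have := congrArg (algebraMap K₂ F) hrel
    rw [map_pow, map_mul, map_add, map_one, map_mul, map_pow,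
      ← IsScalarTower.algebraMap_apply K K₂ F] at this
    exact this
  have hwFv : O.valuation wF = 1 := by
    rw [hwFdef]
    apply Valuation.map_one_add_of_lt
    rw [map_mul, map_pow]
    calc O.valuation πF ^ n * O.valuation bbF
        ≤ O.valuation πF ^ n * 1 := mul_le_mul' le_rfl ((O.valuation_le_one_iff _).mpr hbbO)
      _ = O.valuation πF ^ n := mul_one _
      _ < 1 := pow_lt_one₀ zero_le' hπFv hn.ne'
  have hwinv : wF⁻¹ ∈ O := by
    rw [← O.valuation_le_one_iff, map_inv₀, hwFv, inv_one]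
  have hwF0 : wF ≠ 0 := by
    intro h0
    rw [h0, map_zero] at hwFv
    exact zero_ne_one hwFv
  have hθ0 : θF ≠ 0 := by
    intro h0
    rw [h0, zero_pow (pow_ne_zero _ hp.out.ne_zero)] at hrelF
    exact mul_ne_zero hπF0 hwF0 hrelF.symm
  have hθv : O.valuation θF < 1 := by
    by_contra hge
    rw [not_lt] at hge
    have h1 : 1 ≤ O.valuation θF ^ p ^ N := one_le_pow₀ hge
    rw [← map_pow, hrelF, map_mul, hwFv, mul_one] at h1
    exact absurd hπFv (not_lt.mpr h1)
  have hθO : θF ∈ O := (O.valuation_le_one_iff _).mp hθv.le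
  -- the normal form, transported to `F`
  have hLF : algebraMap L F (algebraMap A L π) = πF := by
    rw [hπFdef, IsScalarTower.algebraMap_apply A K L, ← IsScalarTower.algebraMap_apply K L F]
  have hξF : algebraMap L F ξ + wp p (algebraMap L F y₀) = algebraMap K F ρ +
      ∑ j ∈ J, (πF ^ j)⁻¹ * (algebraMap B F (r j)) ^ p ^ s j + algebraMap B F b₀ := by
    have := congrArg (algebraMap L F) hnf
    rw [map_add, map_wp, map_add, map_add, map_sum, ← IsScalarTower.algebraMap_apply K L F]
      at this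
    have hsum : ∑ x ∈ J, (algebraMap L F)
        (((algebraMap A L) π ^ x)⁻¹ * (algebraMap B L) (r x) ^ p ^ s x) =
        ∑ j ∈ J, (πF ^ j)⁻¹ * (algebraMap B F (r j)) ^ p ^ s j := by
      refine Finset.sum_congr rfl fun j _ => ?_
      rw [map_mul, map_inv₀, map_pow, map_pow, hLF]
      rfl
    rw [this, hsum]
    rfl
  have hρF : algebraMap K F ρ = wp p tF + a₁F := by
    have := congrArg (algebraMap K₂ F) hρ
    rw [map_add, map_wp, ← IsScalarTower.algebraMap_apply K K₂ F] at this
    exact this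
  obtain ⟨y, hy⟩ := exists_good_form O hπO hπF0 hθ0 hθv hrelF rfl hbbO hwinv J s
    (fun j => algebraMap B F (r j)) (fun j hj => (hJ j hj).1) (fun j hj => (hJ j hj).2) hsN hps
    (fun j _ => hO.1 _) hξF hρF ha₁O (hO.1 b₀)
  -- the new Artin–Schreier generator
  set z₂ : M₂ := algebraMap M M₂ z + (y : M₂) with hz₂def
  set ξ₂ : F := algebraMap L F ξ + wp p y with hξ₂def
  have hz₂ : z₂ ^ p - z₂ = algebraMap F M₂ ξ₂ := by
    show wp p z₂ = _
    rw [hz₂def, wp_add, hξ₂def, map_add, map_wp (algebraMap F M₂)]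
    congr 1
    rw [← map_wp (algebraMap M M₂)]
    show algebraMap M M₂ (z ^ p - z) = _
    rw [hz]
    rfl
  have hgen₂' : F⟮z₂⟯ = ⊤ := adjoin_z_eq_top F hK₂F hgenM hgen₂ y
  have hgood : ξ₂ ∈ O ∨ ∃ (θ r' δ : F) (E₀ : ℕ), θ ≠ 0 ∧ θ ∈ O ∧ O.valuation θ < 1 ∧ r' ∈ O ∧
      O.valuation δ < 1 ∧ 0 < E₀ ∧ (∀ x ∈ O, ¬ O.valuation (r' - x ^ p) < 1) ∧
      ξ₂ = ((θ⁻¹) ^ E₀) ^ p * (r' + δ) := by
    rcases hy with hint | ⟨j₀, hj₀, δ, hδ, E₀, hE₀, heq⟩
    · exact Or.inl hint
    right
    refine ⟨θF, algebraMap B F (r j₀), δ, E₀, hθ0, hθO, hθv, hO.1 _, hδ, hE₀, ?_, heq⟩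
    intro x hx hlt
    obtain ⟨b, hb⟩ := residue_from_B d hw hgenF O hO hx
    have h5 : O.valuation (algebraMap B F (r j₀ - b ^ p)) < 1 := by
      have e1 : algebraMap B F (r j₀ - b ^ p) =
          (algebraMap B F (r j₀) - x ^ p) + (x - algebraMap B F b) ^ p := by
        rw [sub_pow_char, map_sub, map_pow]; ring
      rw [e1]
      refine lt_of_le_of_lt (Valuation.map_add _ _ _) (max_lt hlt ?_)
      rw [map_pow]
      exact pow_lt_one₀ zero_le' hb hp.out.ne_zero
    have h6 : r j₀ - b ^ p ∈ maximalIdeal B :=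
      (Groth.Agent.Lib.Helper24.TameDVR.valuation_lt_one_iff_of_dominates _ O hO _).mp h5
    apply hr j₀ hj₀ b
    rw [← map_pow, ← sub_eq_zero, ← map_sub, residue_eq_zero_iff]
    exact h6
  have key := weak_of_good O hz₂ hgen₂' hgood W hOdef.symm
  -- conclusion
  obtain ⟨-, hπ₂v, hπ₂0⟩ := div_uniformizer_mem d hw hgenF O hO (x := 0)
    (by rw [map_zero]; exact zero_lt_one)
  have hπ₂M : algebraMap K₂ M₂ π₂ = algebraMap F M₂ (algebraMap K₂ F π₂) := rfl
  have hπ₂vW : W.valuation (algebraMap K₂ M₂ π₂) < 1 := by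
    rw [hπ₂M, ← comap_valuation_lt_one_iff, ← hOdef]
    exact hπ₂v
  refine Epp.weaklyUnramified_comap_of_exists_eq_mul (algebraMap K₂ M₂) W π₂
    ((W.valuation_le_one_iff _).mp hπ₂vW.le) hπ₂vW ?_
  intro x hx
  obtain ⟨o, hoO, hov, w, hwW, rfl⟩ := key x hx
  obtain ⟨hdiv, -, -⟩ := div_uniformizer_mem d hw hgenF O hO hov
  refine ⟨algebraMap F M₂ (o * (algebraMap K₂ F π₂)⁻¹) * w, W.mul_mem _ _ ?_ hwW, ?_⟩
  · rw [hOdef] at hdiv
    exact ValuationSubring.mem_comap.mp hdiv
  · rw [hπ₂M, ← mul_assoc, ← map_mul, mul_comm (algebraMap K₂ F π₂), mul_assoc,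
      inv_mul_cancel₀ hπ₂0, mul_one]

end Groth.Agent.Lib.Helper18.EppAS
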