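import Mathlib
import Groth.Prelude.Def_EtRam
import Groth.Agent.Lib.Helper18.EppAS.Place
import Groth.Agent.Lib.Helper18.Eis.Construct
import Groth.Agent.Lib.Helper18.SepSol.Place
import Groth.Agent.S6332

/-! # Eliminating the ramification of an Artin–Schreier extension in characteristic `p` -/

set_option autoImplicit false
set_option linter.style.haveILetI false

namespace Groth.Agent.Lib.Helper18.EppAS

open Polynomial IsLocalRing EtRam IntermediateField
open Groth.Agent.Lib.Helper24.TameTower Groth.Agent.Lib.Helper18.Eis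

universe u

set_option maxHeartbeats 1600000 in
theorem exists_weakSolution (p : ℕ) (hp : p.Prime) (A B C K L M : Type u)
    [CommRing A] [IsDomain A] [IsDiscreteValuationRing A] [CommRing B] [IsDomain B]
    [IsDiscreteValuationRing B] [CommRing C] [IsDomain C] [IsDiscreteValuationRing C]
    [Algebra A B] [Algebra B C]
    [IsLocalHom (algebraMap A B)] [IsLocalHom (algebraMap B C)]
    [Field K] [Field L] [Field M] [Algebra A K] [IsFractionRing A K] [Algebra B L]
    [IsFractionRing B L]
    [Algebra C M] [Algebra K L] [Algebra L M] [Algebra K M] [IsScalarTower K L M]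
    [Algebra A L] [IsScalarTower A K L] [IsScalarTower A B L] [Algebra B M] [IsScalarTower B L M]
    [IsScalarTower B C M]
    (hw : IsWeaklyUnramified A B) [CharP K p] [IsGalois L M] (hdeg : Module.finrank L M = p)
    (hk : ∀ x : ResidueField B, (∀ n : ℕ, ∃ y : ResidueField B, y ^ (p ^ n) = x) ↔
      x ∈ Set.range (algebraMap (ResidueField A) (ResidueField B))) :
    ∃ (K₁ : Type u) (_ : Field K₁) (_ : Algebra K K₁), FiniteDimensional K K₁ ∧
      Algebra.IsSeparable K K₁ ∧
      IsTotallyRamified A ((algebraMap K K₁).comp (algebraMap A K)) ∧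
      IsWeakSolution C K M K₁ := by
  classical
  haveI : Fact p.Prime := ⟨hp⟩
  haveI : CharP L p := charP_of_injective_algebraMap (algebraMap K L).injective p
  haveI : CharP (ResidueField B) p := AS.charP_residue (p := p) B L
  haveI : FiniteDimensional L M := Module.finite_of_finrank_pos (by rw [hdeg]; exact hp.pos)
  have hperfA := residue_perfect (A := A) (B := B) hk
  -- the Artin–Schreier generator
  obtain ⟨z, ⟨ξ, hξ⟩, hgenM⟩ := Groth.Agent.S6332.result (K := L) (L := M) p hdeg
  have hz : z ^ p - z = algebraMap L M ξ := hξ.symm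
  -- uniformizers and the normal form
  obtain ⟨π, hπirr⟩ := IsDiscreteValuationRing.exists_irreducible A
  have hπ : maximalIdeal A = Ideal.span {π} := hπirr.maximalIdeal_eq
  have hπB : maximalIdeal B = Ideal.span {algebraMap A B π} := by
    rw [← hw, hπ, Ideal.map_span, Set.image_singleton]
  have hπBirr : Irreducible (algebraMap A B π) :=
    (IsDiscreteValuationRing.irreducible_iff_uniformizer _).mpr hπB
  obtain ⟨n₀, b, hpole⟩ := exists_pole_bound (L := L) hπBirr ξ
  rw [← IsScalarTower.algebraMap_apply A B L] at hpole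
  obtain ⟨y₀, ρ, J, s, r, b₀, hJ, hps, hr, hnf⟩ :=
    normal_form (K := K) hw π hπ hk n₀ ξ b hpole
  set n := n₀ + 1 with hn
  set N := J.sup s + 1 with hN
  have hsN : ∀ j ∈ J, s j < N := fun j hj => by
    have : s j ≤ J.sup s := Finset.le_sup hj
    omega
  have hq2 : 2 ≤ p ^ N := by
    calc 2 ≤ p := hp.two_le
      _ = p ^ 1 := (pow_one p).symm
      _ ≤ p ^ N := Nat.pow_le_pow_right hp.pos (by omega)
  -- the first extension
  obtain ⟨K₁, fK₁, aKK₁, aAK₁, towAKK₁, hfr₁, hsep₁, htr₁, π₁, bb, bb', hπ₁int, hbbint, -, hrel₁,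
    -, -⟩ := exists_ext_of_two_le_root (K := K) π hπ (n := n + 1) (by omega) hq2
  haveI : FiniteDimensional K K₁ :=
    Module.finite_of_finrank_pos (by rw [hfr₁]; exact pow_pos hp.pos N)
  have htr₁' : IsTotallyRamified A (gL A K K₁) := by
    have : gL A K K₁ = algebraMap A K₁ := (IsScalarTower.algebraMap_eq A K K₁).symm
    rw [this]; exact htr₁
  -- the second extension
  obtain ⟨K₂, fK₂, aKK₂, aK₁K₂, towKK₁K₂, hfin₂, hsep₂, htr₂, t, a₁, ha₁V, hρ₂⟩ :=
    exists_K₂ (p := p) htr₁' hperfA (algebraMap K K₁ ρ)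
  refine ⟨K₂, fK₂, aKK₂, hfin₂, hsep₂, htr₂, ?_⟩
  intro M₂ _ _ _ _ _ _ hgen₂ W hW
  have hcompA : (algebraMap K₁ K₂).comp (algebraMap A K₁) = gL A K K₂ := by
    ext a
    show algebraMap K₁ K₂ (algebraMap A K₁ a) = algebraMap K K₂ (algebraMap A K a)
    rw [IsScalarTower.algebraMap_apply A K K₁, ← IsScalarTower.algebraMap_apply K K₁ K₂]
  refine place_weak (n := n) hw π hπ hz hgenM (by omega) (fun j hj => ⟨(hJ j hj).1, by
    have := (hJ j hj).2; omega⟩) hps hr hnf htr₂ hsN (θ₁ := algebraMap K₁ K₂ π₁) (t := t)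
    (a₁ := algebraMap K₁ K₂ a₁) (bb := algebraMap K₁ K₂ bb) ?_ ?_ ?_ ?_ M₂ hgen₂ W hW
  · -- the relation
    have := congrArg (algebraMap K₁ K₂) hrel₁
    rw [map_pow, map_add, map_mul, map_pow] at this
    have hπK₂ : algebraMap K₁ K₂ (algebraMap A K₁ π) = algebraMap K K₂ (algebraMap A K π) := by
      rw [IsScalarTower.algebraMap_apply A K K₁, ← IsScalarTower.algebraMap_apply K K₁ K₂]
    rw [hπK₂] at this
    rw [this, pow_succ]
    ring
  · -- `bb` is integral
    intro V hV
    apply SepSol.mem_of_isIntegralElem V (gL A K K₂) hV.1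
    obtain ⟨P, hPm, hP⟩ := hbbint
    refine ⟨P, hPm, ?_⟩
    rw [← hcompA, ← Polynomial.hom_eval₂, hP, map_zero]
  · -- `a₁` is integral
    intro V hV
    exact ValuationSubring.mem_comap.mp (ha₁V _ (dominates_comap (L := K₁) hV))
  · rw [IsScalarTower.algebraMap_apply K K₁ K₂]
    exact hρ₂

end Groth.Agent.Lib.Helper18.EppAS
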